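import Cfsg.Agent.S1695
import Cfsg.Agent.S1697
import Cfsg.Agent.Fischer.Fi24Real
import Cfsg.Agent.Fischer.Fi24Spider
import Cfsg.Agent.SporRec.Fi24Index

/-!
# The presented group `Fi24` has a subgroup isomorphic to the presented group `He` (helper868)
-/

set_option autoImplicit false

namespace Cfsg.Agent.H868.HeFi24

open Cfsg Cfsg.Agent.Fischer

/-- An injective homomorphism `He → Fi24`. -/
theorem exists_embedding : ∃ ψ : Cfsg.Spor.He →* Cfsg.Spor.Fi24, Function.Injective ψ := by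
  have h97 := Cfsg.Agent.S1697.result
  obtain ⟨hub, hne⟩ := Cfsg.Agent.SporRec.Fi24Index.index_le
  obtain ⟨hfin, hH⟩ := Cfsg.Agent.Fischer.Fi24Spider.main hub hne h97.2
  obtain ⟨ψ, -, hψ⟩ := HeInFi24.he_hom (Fi24Real.stab_comm hub hne) (by
    intro z hz h0
    apply Fi24Final.eq_one_of_fixes hub hne hfin hH
    intro q hq
    have hq' : q ∈ {p : ℕ | ∃ x, Fi24Rep.rho x 0 = p} := by rw [Fi24RepOrb.orbG]; exact hq
    obtain ⟨k, rfl⟩ := hq'
    rw [← Equiv.Perm.mul_apply, ← map_mul, hz, map_mul, Equiv.Perm.mul_apply, h0])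
  have hs : IsSimpleGroup Cfsg.Spor.He := Cfsg.Agent.S1695.result.1
  refine ⟨ψ, (MonoidHom.ker_eq_bot_iff ψ).1 ?_⟩
  rcases (MonoidHom.normal_ker ψ).eq_bot_or_eq_top with h | h
  · exact h
  · exfalso
    apply hψ
    have : (PresentedGroup.of Cfsg.Spor.He.Gen.a : Cfsg.Spor.He) ∈ ψ.ker := by rw [h]; trivial
    exact this

end Cfsg.Agent.H868.HeFi24
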