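import Cfsg.Agent.H868.KSL2
import Cfsg.Agent.H92.ExcCount
import Cfsg.Agent.ChevalleyStructure.D4Perfect
import Cfsg.Agent.S1067

/-!
# `k(³D₄(q)) ≥ 12`
-/

set_option autoImplicit false

namespace Cfsg.Agent.H868.KTwD4

open Cfsg Cfsg.Lie Cfsg.Agent.H92.KTools Cfsg.Agent.H92.ExcSL2 Cfsg.Agent.H92.ExcOrd Cfsg.Agent.H92.ExcCount
  Cfsg.Agent.H436 Cfsg.Agent.OrdDiv Cfsg.Agent.H868.KSL2
  Cfsg.Agent.ChevalleyStructure Cfsg.Agent.ChevalleyStructure.Elts Cfsg.Agent.ChevalleyStructure.SL2Hom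

theorem hD4 : InList chevD4 := by simp

variable {K : Type} [Field K]

theorem xG_eq (r : ℕ) (t : K) : xG hD4 r t = D4Comm.xG r t := Units.ext (by rw [coe_xG, D4Comm.coe_xG])

/-! ### long root elements -/

section Long

open Cfsg.Agent.ChevalleyStructure.D4NCheck Cfsg.Agent.ChevalleyStructure.D4NConj
  Cfsg.Agent.ChevalleyStructure.D4TwN Cfsg.Agent.ChevalleyStructure.D4Perfect
  Cfsg.Agent.ChevalleyStructure.D4Perm

theorem nA_conj_9 (K : Type) [Field K] : ∃ ε : K, (ε = 1 ∨ ε = -1) ∧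
    ∀ v : K, nA K * D4Comm.xG 9 v * (nA K)⁻¹ = D4Comm.xG 1 (ε * v) := by
  obtain ⟨a, ha, h1⟩ := nG_conj' K (i := 3) (s := 9) (by norm_num) (by norm_num)
  obtain ⟨b, hb, h2⟩ := nG_conj' K (i := 2) (s := rfl' 3 9) (by norm_num) (rfl'_lt (by norm_num) (by norm_num))
  obtain ⟨c, hc, h3⟩ := nG_conj' K (i := 0) (s := rfl' 2 (rfl' 3 9)) (by norm_num)
    (rfl'_lt (by norm_num) (rfl'_lt (by norm_num) (by norm_num)))
  refine ⟨c * (b * a), sign_mul hc (sign_mul hb ha), fun v => ?_⟩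
  have e : nA K * D4Comm.xG 9 v * (nA K)⁻¹ =
      nG K 0 * (nG K 2 * (nG K 3 * D4Comm.xG 9 v * (nG K 3)⁻¹) * (nG K 2)⁻¹) * (nG K 0)⁻¹ := by
    rw [nA_def]; group
  rw [e, h1, h2, h3]
  have e2 : rfl' 0 (rfl' 2 (rfl' 3 9)) = 1 := by decide +kernel
  rw [e2, mul_assoc, mul_assoc]

theorem nB_conj_1 (K : Type) [Field K] : ∃ ε : K, (ε = 1 ∨ ε = -1) ∧
    ∀ v : K, nB K * D4Comm.xG 1 v * (nB K)⁻¹ = D4Comm.xG 0 (ε * v) := by
  obtain ⟨a, ha, h1⟩ := nG_conj' K (i := 1) (s := 1) (by norm_num) (by norm_num)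
  refine ⟨a, ha, fun v => ?_⟩
  have e2 : rfl' 1 1 = 0 := by decide +kernel
  rw [nB_def, h1, e2]

variable {φ : K →+* K} {q : ℕ}

theorem x9_mem' (hφ : ∀ x, φ x = x ^ q) {v : K} (hv : φ v = v) : D4Comm.xG 9 v ∈ twistedD4 K q := by
  have := D4Fixed.x9_mem (K := K) (q := q) (t := v) (by rw [← hφ, hv])
  rwa [xU_eq] at this

theorem x1_mem (hφ : ∀ x, φ x = x ^ q) {v : K} (hv : φ v = v) : D4Comm.xG 1 v ∈ twistedD4 K q := by
  obtain ⟨ε, hε, h⟩ := nA_conj_9 K
  have h1 := mul_mem (mul_mem (nA_mem_twisted hφ) (x9_mem' hφ (phi_sign hε hv))) (inv_mem (nA_mem_twisted hφ))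
  rwa [h, sign_mul_self hε] at h1

theorem x0_mem (hφ : ∀ x, φ x = x ^ q) {v : K} (hv : φ v = v) : D4Comm.xG 0 v ∈ twistedD4 K q := by
  obtain ⟨ε, hε, h⟩ := nB_conj_1 K
  have h1 := mul_mem (mul_mem (nB_mem_twisted hφ) (x1_mem hφ (phi_sign hε hv))) (inv_mem (nB_mem_twisted hφ))
  rwa [h, sign_mul_self hε] at h1

theorem x23_mem (hφ : ∀ x, φ x = x ^ q) {v : K} (hv : φ v = v) : D4Comm.xG 23 v ∈ twistedD4 K q :=
  C_le (x23_mem_C hφ hv)

end Long

/-! ### the two commuting `SL₂`'s -/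

theorem l18 : 18 < chevD4.nroots := by decide
theorem l13 : 13 < chevD4.nroots := by decide
theorem l12 : 12 < chevD4.nroots := by decide
theorem l23 : 23 < chevD4.nroots := by decide
theorem l14 : 14 < chevD4.nroots := by decide
theorem l22 : 22 < chevD4.nroots := by decide

section B

variable (φ : K →+* K) {q : ℕ}

noncomputable def B1 : SL2 K →* ↥(chevD4.group K) :=
  KSL2.mulHom (ph hD4 l18) ((ph hD4 l13).comp (Matrix.SpecialLinearGroup.map φ))
    (fun _ _ => ph_commute hD4 l18 l13 (by decide) _ _)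

theorem B1_apply (g : SL2 K) : B1 φ g = ph hD4 l18 g * ph hD4 l13 (Matrix.SpecialLinearGroup.map φ g) := rfl

/-- `SL₂(K) → D₄(K)`, with image in `³D₄`. -/
noncomputable def B : SL2 K →* ↥(chevD4.group K) :=
  KSL2.mulHom (B1 φ) ((ph hD4 l12).comp (Matrix.SpecialLinearGroup.map (φ.comp φ)))
    (fun x y => by
      rw [B1_apply]
      exact (ph_commute hD4 l18 l12 (by decide) _ _).mul_left (ph_commute hD4 l13 l12 (by decide) _ _))

theorem B_apply (g : SL2 K) : B φ g = ph hD4 l18 g * ph hD4 l13 (Matrix.SpecialLinearGroup.map φ g) *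
    ph hD4 l12 (Matrix.SpecialLinearGroup.map (φ.comp φ) g) := rfl

theorem kerPM_B : KerPM (B φ) := ((kerPM_ph hD4 l18).mulHom _).mulHom _

theorem map_up (ψ : K →+* K) (t : K) : Matrix.SpecialLinearGroup.map ψ (up t) = up (ψ t) := by
  apply Subtype.ext
  show ψ.mapMatrix (up t).1 = (up (ψ t)).1
  ext i j
  fin_cases i <;> fin_cases j <;> simp [up]

theorem map_lo (ψ : K →+* K) (t : K) : Matrix.SpecialLinearGroup.map ψ (lo t) = lo (ψ t) := by
  apply Subtype.ext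
  show ψ.mapMatrix (lo t).1 = (lo (ψ t)).1
  ext i j
  fin_cases i <;> fin_cases j <;> simp [lo]

theorem coe_B_up (t : K) : ((B φ (up t) : ↥(chevD4.group K)) : GL chevD4.Idx K) = D4Fixed.X φ t := by
  rw [B_apply, map_up, map_up, Subgroup.coe_mul, Subgroup.coe_mul, coe_ph, coe_ph, coe_ph, phi_up hD4 l18,
    phi_up hD4 l13, phi_up hD4 l12, D4Perfect.X_def', xG_eq, xG_eq, xG_eq]
  rfl

theorem coe_B_lo (t : K) : ((B φ (lo t) : ↥(chevD4.group K)) : GL chevD4.Idx K) = D4Fixed.Y φ t := by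
  rw [B_apply, map_lo, map_lo, Subgroup.coe_mul, Subgroup.coe_mul, coe_ph, coe_ph, coe_ph, phi_lo hD4 l18,
    phi_lo hD4 l13, phi_lo hD4 l12, D4Perfect.Y_def', xG_eq, xG_eq, xG_eq]
  rfl

variable {φ}

theorem B_mem (hφ : ∀ x, φ x = x ^ q) (g : SL2 K) : ((B φ g : ↥(chevD4.group K)) : GL chevD4.Idx K) ∈ twistedD4 K q := by
  have h3 : Subgroup.closure (Set.range (up (F := K)) ∪ Set.range (lo (F := K))) ≤
      (twistedD4 K q).comap ((chevD4.group K).subtype.comp (B φ)) := by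
    rw [Subgroup.closure_le]
    rintro _ (⟨t, rfl⟩ | ⟨t, rfl⟩)
    · show ((B φ (up t) : ↥(chevD4.group K)) : GL chevD4.Idx K) ∈ twistedD4 K q
      rw [coe_B_up]
      exact D4Fixed.X_mem hφ t
    · show ((B φ (lo t) : ↥(chevD4.group K)) : GL chevD4.Idx K) ∈ twistedD4 K q
      rw [coe_B_lo]
      exact D4Fixed.Y_mem hφ t
  exact h3 (mem_closure_SL2 g)

theorem commute_B (x g : SL2 K) : Commute (ph hD4 l23 x) (B φ g) := by
  rw [B_apply]
  exact ((ph_commute hD4 l23 l18 (by decide) _ _).mul_right (ph_commute hD4 l23 l13 (by decide) _ _)).mul_right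
    (ph_commute hD4 l23 l12 (by decide) _ _)

theorem hasOrd_B (hφ : ∀ x, φ x = x ^ q) {g : SL2 K} {n : ℕ} (h : orderOf (B φ g) = n) :
    HasOrd (twistedD4 K q) n := hasOrd_of_mem (B_mem hφ g) (by rw [coe_orderOf, h])

theorem hasOrd_AB (hφ : ∀ x, φ x = x ^ q) {x g : SL2 K} {m n : ℕ} (hx : orderOf (ph hD4 l23 x) = m)
    (hxm : ((ph hD4 l23 x : ↥(chevD4.group K)) : GL chevD4.Idx K) ∈ twistedD4 K q)
    (h : orderOf (B φ g) = n) (hmn : m.Coprime n) : HasOrd (twistedD4 K q) (m * n) := by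
  refine hasOrd_of_mem (mul_mem hxm (B_mem hφ g)) ?_
  rw [← Subgroup.coe_mul, coe_orderOf, (commute_B x g).orderOf_mul_eq_mul_orderOf_of_coprime (by rw [hx, h]; exact hmn),
    hx, h]

theorem A_up_mem (hφ : ∀ x, φ x = x ^ q) {t : K} (ht : φ t = t) :
    ((ph hD4 l23 (up t) : ↥(chevD4.group K)) : GL chevD4.Idx K) ∈ twistedD4 K q := by
  rw [coe_ph, phi_up hD4 l23, xG_eq]
  exact x23_mem hφ ht

theorem A_lo_mem (hφ : ∀ x, φ x = x ^ q) {t : K} (ht : φ t = t) :
    ((ph hD4 l23 (lo t) : ↥(chevD4.group K)) : GL chevD4.Idx K) ∈ twistedD4 K q := by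
  rw [coe_ph, phi_lo hD4 l23, xG_eq]
  exact x0_mem hφ ht

theorem A_thr_mem (hφ : ∀ x, φ x = x ^ q) :
    ((ph hD4 l23 (thr K) : ↥(chevD4.group K)) : GL chevD4.Idx K) ∈ twistedD4 K q := by
  rw [thr_eq, map_mul, map_mul, map_mul, Subgroup.coe_mul, Subgroup.coe_mul, Subgroup.coe_mul]
  exact mul_mem (mul_mem (mul_mem (A_up_mem hφ (map_one φ)) (A_lo_mem hφ (by rw [map_neg, map_one])))
    (A_up_mem hφ (map_one φ))) (A_up_mem hφ (map_one φ))

theorem B_neg_one (h2 : (2 : K) ≠ 0) : B φ (-1) ≠ 1 := by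
  intro h
  have h1 : ∀ ψ : K →+* K, Matrix.SpecialLinearGroup.map ψ (-1 : SL2 K) = -1 := by
    intro ψ
    apply Subtype.ext
    show ψ.mapMatrix (-1 : SL2 K).1 = (-1 : SL2 K).1
    ext i j
    fin_cases i <;> fin_cases j <;> simp
  have h3 : (hG hD4 18 (-1) : GL chevD4.Idx K) * hG hD4 13 (-1) * hG hD4 12 (-1) = 1 := by
    have := congrArg (fun z : ↥(chevD4.group K) => (z : GL chevD4.Idx K)) h
    simpa only [B_apply, h1, Subgroup.coe_mul, coe_ph, phi_neg_one hD4 l18, phi_neg_one hD4 l13, phi_neg_one hD4 l12,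
      Subgroup.coe_one] using this
  have hm : (-1 : K) ≠ 0 := by simp
  have e0 := fun t : K => BruhatSplit.hG_simple_conj (F := K) hD4 (i := 0) (s := 14) (by decide) (by decide) hm t
  have e2 := fun t : K => BruhatSplit.hG_simple_conj (F := K) hD4 (i := 2) (s := 14) (by decide) (by decide) hm t
  have e3 := fun t : K => BruhatSplit.hG_simple_conj (F := K) hD4 (i := 3) (s := 14) (by decide) (by decide) hm t
  have c0 : chevD4.cartan 0 14 = -1 := by decide
  have c2 : chevD4.cartan 2 14 = -1 := by decide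
  have c3 : chevD4.cartan 3 14 = -1 := by decide
  have s0 : chevD4.simple 0 = 18 := by decide
  have s2 : chevD4.simple 2 = 13 := by decide
  have s3 : chevD4.simple 3 = 12 := by decide
  rw [c0, s0] at e0
  rw [c2, s2] at e2
  rw [c3, s3] at e3
  have e : (hG hD4 18 (-1) * hG hD4 13 (-1) * hG hD4 12 (-1)) * xG hD4 14 (1 : K) *
      (hG hD4 18 (-1) * hG hD4 13 (-1) * hG hD4 12 (-1))⁻¹ =
      hG hD4 18 (-1) * (hG hD4 13 (-1) * (hG hD4 12 (-1) * xG hD4 14 (1 : K) * (hG hD4 12 (-1))⁻¹) *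
        (hG hD4 13 (-1))⁻¹) * (hG hD4 18 (-1))⁻¹ := by group
  rw [e3, e2, e0, h3, one_mul, inv_one, mul_one] at e
  have h5 := xG_injective hD4 l14 e
  have hi : (-1 : K) ^ (-1 : ℤ) = -1 := by simp
  rw [hi] at h5
  apply h2
  linear_combination h5

theorem B_injective (h2 : (2 : K) ≠ 0) : Function.Injective (B φ) := by
  rw [injective_iff_map_eq_one]
  intro g hg
  rcases kerPM_B φ g hg with h | h
  · exact h
  · subst h
    exact absurd hg (B_neg_one h2)

end B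

/-! ### elements of the torus -/

/-- `diag(c, c⁻¹)` -/
def dg : Kˣ →* SL2 K where
  toFun c := ⟨!![(c : K), 0; 0, ((c⁻¹ : Kˣ) : K)], by simp [Matrix.det_fin_two]⟩
  map_one' := by
    apply Subtype.ext
    ext i j
    fin_cases i <;> fin_cases j <;> simp
  map_mul' a b := by
    apply Subtype.ext
    show _ = !![(a : K), 0; 0, ((a⁻¹ : Kˣ) : K)] * !![(b : K), 0; 0, ((b⁻¹ : Kˣ) : K)]
    ext i j
    fin_cases i <;> fin_cases j <;> simp [mul_comm]

theorem coe_dg (c : Kˣ) : (dg c).1 = !![(c : K), 0; 0, ((c⁻¹ : Kˣ) : K)] := rfl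

theorem dg_injective : Function.Injective (dg (K := K)) := by
  intro a b h
  apply Units.ext
  have := congrArg (fun z : SL2 K => z.1 0 0) h
  simpa [coe_dg] using this

theorem dg_eq (c : Kˣ) : dg c = wel (c : K) c.ne_zero * wel (-1) (by simp) := by
  apply Subtype.ext
  show !![(c : K), 0; 0, ((c⁻¹ : Kˣ) : K)] = !![0, (c : K); -(c : K)⁻¹, 0] * !![0, (-1 : K); -(-1 : K)⁻¹, 0]
  ext i j
  fin_cases i <;> fin_cases j <;> simp [Units.val_inv_eq_inv_val]

theorem phi_dg {D : ChevalleyDatum} (hD : InList D) {r : ℕ} (hr : r < D.nroots) (c : Kˣ) :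
    phi (SL2All.good_of_mem D hD r hr) K (dg c) = hG hD r (c : K) := by
  rw [dg_eq, map_mul, phi_wel hD hr, phi_wel hD hr, hG_def]

theorem map_dg (ψ : K →+* K) (c : Kˣ) :
    Matrix.SpecialLinearGroup.map ψ (dg c) = dg (Units.map ψ.toMonoidHom c) := by
  apply Subtype.ext
  show ψ.mapMatrix (dg c).1 = (dg (Units.map ψ.toMonoidHom c)).1
  rw [coe_dg, coe_dg]
  ext i j
  fin_cases i <;> fin_cases j <;> simp

theorem coe_B_dg (φ : K →+* K) (c : Kˣ) : ((B φ (dg c) : ↥(chevD4.group K)) : GL chevD4.Idx K) =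
    hG hD4 18 (c : K) * hG hD4 13 (φ c) * hG hD4 12 (φ (φ c)) := by
  rw [B_apply, map_dg, map_dg, Subgroup.coe_mul, Subgroup.coe_mul, coe_ph, coe_ph, coe_ph, phi_dg hD4 l18,
    phi_dg hD4 l13, phi_dg hD4 l12]
  rfl

/-- the torus element `h₁₈(a) h₁₃(b) h₁₂(c)` on the root `s`. -/
theorem torus_conj {a b c : K} (ha : a ≠ 0) (hb : b ≠ 0) (hc : c ≠ 0) {s : ℕ} (hs : s < chevD4.nroots) (t : K) :
    (hG hD4 18 a * hG hD4 13 b * hG hD4 12 c) * xG hD4 s t * (hG hD4 18 a * hG hD4 13 b * hG hD4 12 c)⁻¹ =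
      xG hD4 s (a ^ chevD4.cartan 0 s * (b ^ chevD4.cartan 2 s * (c ^ chevD4.cartan 3 s * t))) := by
  have e0 := fun t : K => BruhatSplit.hG_simple_conj (F := K) hD4 (i := 0) (s := s) (by decide) hs ha t
  have e2 := fun t : K => BruhatSplit.hG_simple_conj (F := K) hD4 (i := 2) (s := s) (by decide) hs hb t
  have e3 := fun t : K => BruhatSplit.hG_simple_conj (F := K) hD4 (i := 3) (s := s) (by decide) hs hc t
  have s0 : chevD4.simple 0 = 18 := by decide
  have s2 : chevD4.simple 2 = 13 := by decide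
  have s3 : chevD4.simple 3 = 12 := by decide
  rw [s0] at e0
  rw [s2] at e2
  rw [s3] at e3
  have e : (hG hD4 18 a * hG hD4 13 b * hG hD4 12 c) * xG hD4 s t *
      (hG hD4 18 a * hG hD4 13 b * hG hD4 12 c)⁻¹ =
      hG hD4 18 a * (hG hD4 13 b * (hG hD4 12 c * xG hD4 s t * (hG hD4 12 c)⁻¹) *
        (hG hD4 13 b)⁻¹) * (hG hD4 18 a)⁻¹ := by group
  rw [e, e3, e2, e0]

/-! ### the orders -/

section Ords

variable {φ : K →+* K} {q : ℕ}

theorem orderOf_B_wel (h2 : (2 : K) ≠ 0) : orderOf (B φ (wel 1 one_ne_zero)) = 4 := by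
  rw [orderOf_injective _ (B_injective h2), orderOf_wel h2]

theorem orderOf_A_up (p : ℕ) [Fact p.Prime] [CharP K p] : orderOf (ph (F := K) hD4 l23 (up 1)) = p :=
  (kerPM_ph hD4 l23).orderOf_up p

theorem orderOf_neg_one (h2 : (2 : K) ≠ 0) : orderOf (-1 : SL2 K) = 2 := by
  have : Fact (Nat.Prime 2) := ⟨Nat.prime_two⟩
  apply orderOf_eq_prime
  · simp
  · intro h
    have := congrArg (fun z : SL2 K => z.1 0 0) h
    simp at this
    apply h2
    linear_combination -this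

theorem ord_four_p (hφ : ∀ x, φ x = x ^ q) (p : ℕ) [hp : Fact p.Prime] [CharP K p] (h2 : (2 : K) ≠ 0) (hp2 : p ≠ 2) :
    HasOrd (twistedD4 K q) (4 * p) := by
  rw [mul_comm]
  refine hasOrd_AB hφ (orderOf_A_up p) (A_up_mem hφ (map_one φ)) (orderOf_B_wel h2) ?_
  rw [show 4 = 2 ^ 2 by norm_num]
  exact Nat.Coprime.pow_right 2 ((Nat.coprime_primes hp.out Nat.prime_two).2 hp2)

theorem ord_p_mul (hφ : ∀ x, φ x = x ^ q) (p : ℕ) [hp : Fact p.Prime] [CharP K p] {g : SL2 K} {n : ℕ}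
    (hg : orderOf g = n) (hn : Odd n) (hpn : p.Coprime n) : HasOrd (twistedD4 K q) (p * n) :=
  hasOrd_AB hφ (orderOf_A_up p) (A_up_mem hφ (map_one φ))
    (by rw [(kerPM_B φ).orderOf_eq g (by rw [hg]; exact hn), hg]) hpn

theorem ord_two_mul (hφ : ∀ x, φ x = x ^ q) (h2 : (2 : K) ≠ 0) {g : SL2 K} {n : ℕ}
    (hg : orderOf g = n) (hn : Odd n) : HasOrd (twistedD4 K q) (2 * n) := by
  refine hasOrd_B hφ (g := -1 * g) ?_
  have hc : Commute (-1 : SL2 K) g := by
    show -1 * g = g * -1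
    simp
  rw [orderOf_injective _ (B_injective h2), hc.orderOf_mul_eq_mul_orderOf_of_coprime
    (by rw [orderOf_neg_one h2, hg]; exact Nat.coprime_two_left.2 hn), orderOf_neg_one h2, hg]

theorem ord_odd (hφ : ∀ x, φ x = x ^ q) {g : SL2 K} {n : ℕ}
    (hg : orderOf g = n) (hn : Odd n) : HasOrd (twistedD4 K q) n :=
  hasOrd_B hφ (by rw [(kerPM_B φ).orderOf_eq g (by rw [hg]; exact hn), hg])

/-- elements of the torus -/
theorem exists_dg_order [Finite K] {n : ℕ} (hn : n ∣ Nat.card K - 1) : ∃ c : Kˣ, orderOf c = n := by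
  obtain ⟨u, hu⟩ := IsCyclic.exists_ofOrder_eq_natCard (α := Kˣ)
  rw [Nat.card_units] at hu
  obtain ⟨k, hk⟩ := hn
  have hpos : 0 < Nat.card K - 1 := by
    have := Finite.one_lt_card (α := K)
    omega
  have hk0 : k ≠ 0 := by rintro rfl; omega
  refine ⟨u ^ k, ?_⟩
  rw [orderOf_pow_of_dvd hk0 (by rw [hu, hk]; exact dvd_mul_left k n), hu, hk,
    Nat.mul_div_cancel _ (Nat.pos_of_ne_zero hk0)]

end Ords

/-! ### `q = 2` -/

section Two

variable {φ : K →+* K}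

/-- order nine -/
def nin (t : K) : SL2 K := ⟨!![0, 1; -1, t], by simp [Matrix.det_fin_two]⟩

theorem orderOf_nin (h2 : (2 : K) = 0) {t : K} (ht : t ^ 3 + t + 1 = 0) : orderOf (nin t) = 9 := by
  have : Fact (Nat.Prime 3) := ⟨Nat.prime_three⟩
  have h3 : nin t ^ 3 = nin t * nin t * nin t := by rw [pow_succ, pow_two]
  have e3 : (nin t ^ 3).1 = !![-t, t ^ 2 - 1; 1 - t ^ 2, t ^ 3 - 2 * t] := by
    rw [h3]
    show !![0, 1; -1, t] * !![0, 1; -1, t] * !![0, 1; -1, t] = _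
    ext i j
    fin_cases i <;> fin_cases j <;> simp <;> ring
  refine orderOf_eq_prime_pow (p := 3) (n := 1) ?_ ?_
  · rw [pow_one]
    intro h
    have h00 := congrArg (fun z : SL2 K => z.1 0 0) h
    have h01 := congrArg (fun z : SL2 K => z.1 0 1) h
    simp only [e3] at h00 h01
    simp at h00 h01
    have h5 : t ^ 3 = t := by
      have : t * (t ^ 2 - 1) = 0 := by rw [h01, mul_zero]
      linear_combination this
    have h6 : (1 : K) = 0 := by
      rw [h5] at ht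
      linear_combination ht - t * h2
    exact one_ne_zero h6
  · have e9 : nin t ^ 3 ^ (1 + 1) = (nin t ^ 3) * (nin t ^ 3) * (nin t ^ 3) := by
      rw [show (3 : ℕ) ^ (1 + 1) = 3 + 3 + 3 by norm_num, pow_add, pow_add]
    rw [e9]
    apply Subtype.ext
    show (nin t ^ 3).1 * (nin t ^ 3).1 * (nin t ^ 3).1 = (1 : SL2 K).1
    rw [e3, Matrix.mul_fin_two, Matrix.mul_fin_two]
    have e00 : (-t * -t + (t ^ 2 - 1) * (1 - t ^ 2)) * -t + (-t * (t ^ 2 - 1) + (t ^ 2 - 1) * (t ^ 3 - 2 * t)) *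
        (1 - t ^ 2) = 1 := by
      linear_combination (-17 + t + 7 * t ^ 2 - t ^ 4) * ht + (8 + 10 * t - 4 * t ^ 2) * h2
    have e01 : (-t * -t + (t ^ 2 - 1) * (1 - t ^ 2)) * (t ^ 2 - 1) +
        (-t * (t ^ 2 - 1) + (t ^ 2 - 1) * (t ^ 3 - 2 * t)) * (t ^ 3 - 2 * t) = 0 := by
      linear_combination (9 + 23 * t - t ^ 2 - 8 * t ^ 3 + t ^ 5) * ht + (-4 - 16 * t - 16 * t ^ 2) * h2
    have e10 : ((1 - t ^ 2) * -t + (t ^ 3 - 2 * t) * (1 - t ^ 2)) * -t +
        ((1 - t ^ 2) * (t ^ 2 - 1) + (t ^ 3 - 2 * t) * (t ^ 3 - 2 * t)) * (1 - t ^ 2) = 0 := by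
      linear_combination (-9 - 23 * t + t ^ 2 + 8 * t ^ 3 - t ^ 5) * ht + (4 + 16 * t + 16 * t ^ 2) * h2
    have e11 : ((1 - t ^ 2) * -t + (t ^ 3 - 2 * t) * (1 - t ^ 2)) * (t ^ 2 - 1) +
        ((1 - t ^ 2) * (t ^ 2 - 1) + (t ^ 3 - 2 * t) * (t ^ 3 - 2 * t)) * (t ^ 3 - 2 * t) = 1 := by
      linear_combination (-49 + 10 * t + 30 * t ^ 2 - t ^ 3 - 9 * t ^ 4 + t ^ 6) * ht +
        (24 + 22 * t - 20 * t ^ 2) * h2
    rw [e00, e01, e10, e11]
    exact Matrix.one_fin_two.symm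

theorem exists_cubic [Finite K] (h8 : Nat.card K = 8) : ∃ t : K, t ^ 3 + t + 1 = 0 := by
  have : Fintype K := Fintype.ofFinite K
  have h2 : (2 : K) = 0 := by
    have h := FiniteField.cast_card_eq_zero K
    rw [← Nat.card_eq_fintype_card, h8] at h
    have h' : (2 : K) ^ 3 = 0 := by
      rw [← h]; norm_num
    exact pow_eq_zero_iff (by norm_num) |>.1 h'
  obtain ⟨u, hu⟩ := exists_dg_order (K := K) (n := 7) (by rw [h8])
  have hu7 : (u : K) ^ 7 = 1 := by
    have := pow_orderOf_eq_one u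
    rw [hu] at this
    have h := congrArg Units.val this
    rwa [Units.val_pow_eq_pow_val, Units.val_one] at h
  have hu1 : (u : K) ≠ 1 := by
    intro h
    have : u = 1 := Units.ext h
    rw [this, orderOf_one] at hu
    omega
  have h0 : ((u : K) - 1) * (((u : K) ^ 3 + u + 1) * ((u : K) ^ 3 + (u : K) ^ 2 + 1)) = 0 := by
    linear_combination hu7 + ((u : K) ^ 4 - (u : K) ^ 3) * h2
  rcases mul_eq_zero.1 ((mul_eq_zero.1 h0).resolve_left (sub_ne_zero.2 hu1)) with h | h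
  · exact ⟨u, h⟩
  · refine ⟨(u : K)⁻¹, ?_⟩
    have hu0 : (u : K) ≠ 0 := u.ne_zero
    field_simp
    linear_combination h

theorem h2_of [Finite K] (h8 : Nat.card K = 8) : (2 : K) = 0 := by
  have : Fintype K := Fintype.ofFinite K
  have h := FiniteField.cast_card_eq_zero K
  rw [← Nat.card_eq_fintype_card, h8] at h
  have h' : (2 : K) ^ 3 = 0 := by
    rw [← h]; norm_num
  exact pow_eq_zero_iff (by norm_num) |>.1 h'

theorem two_case [Finite K] (h8 : Nat.card K = 8) (hφ : ∀ x, φ x = x ^ 2) (hc : Nat.card (twistedD4 K 2) =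
    2 ^ 12 * (2 ^ 2 - 1) * (2 ^ 6 - 1) * (2 ^ 8 + 2 ^ 4 + 1)) : 12 ≤ Nat.card (ConjClasses ↥(twistedD4 K 2)) := by
  have hK2 := h2_of h8
  have : CharP K 2 := by
    have : Fact (Nat.Prime 2) := ⟨Nat.prime_two⟩
    exact CharTwo.of_one_ne_zero_of_two_eq_zero one_ne_zero hK2
  have hfin : Finite ↥(twistedD4 K 2) := inferInstance
  have : Fact (Nat.Prime 2) := ⟨Nat.prime_two⟩
  obtain ⟨t, ht⟩ := exists_cubic h8
  obtain ⟨c, hc7⟩ := exists_dg_order (K := K) (n := 7) (by rw [h8])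
  have hd7 : orderOf (dg c) = 7 := by rw [orderOf_injective _ dg_injective, hc7]
  have h9 := orderOf_nin hK2 ht
  have h3 := orderOf_thr (F := K)
  have o9 : HasOrd (twistedD4 K 2) 9 := ord_odd hφ h9 (by decide)
  have o18 : HasOrd (twistedD4 K 2) 18 := ord_p_mul hφ 2 h9 (by decide) (by decide)
  have o14 : HasOrd (twistedD4 K 2) 14 := ord_p_mul hφ 2 hd7 (by decide) (by decide)
  have o6 : HasOrd (twistedD4 K 2) 6 := ord_p_mul hφ 2 h3 (by decide) (by decide)
  have o21 : HasOrd (twistedD4 K 2) 21 := by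
    refine hasOrd_AB (m := 3) (n := 7) hφ ?_ (A_thr_mem hφ) (g := dg c) ?_ (by norm_num)
    · rw [(kerPM_ph hD4 l23).orderOf_eq _ (by rw [h3]; decide), h3]
    · rw [(kerPM_B φ).orderOf_eq _ (by rw [hd7]; decide), hd7]
  have o28 : HasOrd (twistedD4 K 2) 28 := by
    have hx : orderOf (xG hD4 14 (1 : K) * xG hD4 22 1) = 4 :=
      orderOf_four hD4 l14 l22 (k := 23) (by decide) (by decide) (by decide) (c := 1) (by decide) (by decide)
        (by decide) hK2
    have hz : orderOf ((B φ (dg c) : ↥(chevD4.group K)) : GL chevD4.Idx K) = 7 := by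
      rw [coe_orderOf, (kerPM_B φ).orderOf_eq _ (by rw [hd7]; decide), hd7]
    have hu7 : (c : K) ^ 7 = 1 := by
      have := pow_orderOf_eq_one c
      rw [hc7] at this
      have h := congrArg Units.val this
      rwa [Units.val_pow_eq_pow_val, Units.val_one] at h
    have hcomm : ∀ s, s < chevD4.nroots → (chevD4.cartan 0 s = chevD4.cartan 2 s ∧ chevD4.cartan 2 s = chevD4.cartan 3 s) →
        Commute ((B φ (dg c) : ↥(chevD4.group K)) : GL chevD4.Idx K) (xG hD4 s 1) := by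
      intro s hs ⟨e1, e2⟩
      have h1 := torus_conj (K := K) c.ne_zero (map_ne_zero φ |>.2 c.ne_zero)
        (map_ne_zero φ |>.2 (map_ne_zero φ |>.2 c.ne_zero)) hs 1
      rw [← coe_B_dg, e1, e2, ← mul_assoc, ← mul_assoc, ← mul_zpow, ← mul_zpow] at h1
      have h5 : (c : K) * φ c * φ (φ c) = 1 := by
        rw [hφ, hφ, ← hu7]; ring
      rw [h5, one_zpow, one_mul] at h1
      exact mul_inv_eq_iff_eq_mul.1 h1
    have hcm : Commute (xG hD4 14 (1 : K) * xG hD4 22 1) ((B φ (dg c) : ↥(chevD4.group K)) : GL chevD4.Idx K) :=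
      (hcomm 14 l14 (by decide)).symm.mul_left (hcomm 22 l22 (by decide)).symm
    refine hasOrd_of_mem (mul_mem (mul_mem ?_ ?_) (B_mem hφ (dg c))) (x := xG hD4 14 (1 : K) * xG hD4 22 1 *
      ((B φ (dg c) : ↥(chevD4.group K)) : GL chevD4.Idx K)) ?_
    · rw [xG_eq]; exact D4Perfect.x14_mem' hφ (map_one φ)
    · rw [xG_eq]; exact D4Perfect.x22_mem hφ (map_one φ)
    · rw [hcm.orderOf_mul_eq_mul_orderOf_of_coprime (by rw [hx, hz]; norm_num), hx, hz]
  have o4 : HasOrd (twistedD4 K 2) 4 := o28.of_dvd (by norm_num) (by norm_num)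
  have o2 : HasOrd (twistedD4 K 2) 2 := o4.of_dvd (by norm_num) (by norm_num)
  have o3 : HasOrd (twistedD4 K 2) 3 := o9.of_dvd (by norm_num) (by norm_num)
  have o7 : HasOrd (twistedD4 K 2) 7 := o28.of_dvd (by norm_num) (by norm_num)
  have o13 : HasOrd (twistedD4 K 2) 13 := hasOrd_prime (by norm_num) (by rw [hc]; norm_num)
  refine le_trans (by decide) (orders_le (G := ↥(twistedD4 K 2)) ({1, 2, 3, 4, 6, 7, 9, 13, 14, 18, 21, 28} : Finset ℕ) ?_)
  simp only [Finset.mem_insert, Finset.mem_singleton, forall_eq_or_imp, forall_eq]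
  exact ⟨hasOrd_one _, o2, o3, o4, o6, o7, o9, o13, o14, o18, o21, o28⟩

end Two

/-! ### the count -/

theorem dvd_sq_sub {a r : ℕ} (h : r ∣ a - 1) : r ∣ a ^ 2 - 1 := by
  refine h.trans ?_
  simpa using Nat.sub_dvd_pow_sub_pow a 1 2

theorem td4 {F : Type} [Field F] [Fintype F] {q : ℕ} (hq : IsPrimePow q) (hF : Fintype.card F = q ^ 3) :
    12 ≤ Nat.card (ConjClasses ↥(Lie.twistedD4 F q)) := by
  have hq2 : 2 ≤ q := hq.two_le
  obtain ⟨φ, hφ⟩ := D4Fixed.exists_frob hq hF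
  have hF' : Nat.card F = q ^ 3 := by rw [Nat.card_eq_fintype_card, hF]
  have hcard := S1067.result hq hF
  have hfin : Finite ↥(Lie.twistedD4 F q) := inferInstance
  have h1 : 1 * Nat.card ↥(Lie.twistedD4 F q) = q ^ 12 * ((q ^ 2 - 1) * (q ^ 6 - 1) * (q ^ 8 + q ^ 4 + 1)) := by
    rw [hcard]; ring
  have hm : q * (q ^ 2 - 1) ∣ Nat.card ↥(Lie.twistedD4 F q) := mq_dvd (B := 1) h1 one_pos
    (dvd_pow_self q (by norm_num)) ⟨(q ^ 6 - 1) * (q ^ 8 + q ^ 4 + 1), by ring⟩ dvd_rfl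
  rcases Nat.lt_or_ge 2 q with hq' | hq'
  swap
  · have : q = 2 := by omega
    subst this
    exact two_case (by rw [hF']; norm_num) hφ hcard
  rw [one_mul] at h1
  have hd : ∀ e ∈ ({3, 6, 12} : Finset ℕ), ∀ r, Prim q e r → r ∣ Nat.card ↥(Lie.twistedD4 F q) := by
    simp only [Finset.mem_insert, Finset.mem_singleton, forall_eq_or_imp, forall_eq]
    rw [h1]
    refine ⟨fun r hr => ?_, fun r hr => ?_, fun r hr => ?_⟩
    · exact (((hr.dvd (m := 6) (by norm_num)).mul_left _).mul_right _).mul_left _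
    · exact (((hr.dvd (m := 6) (by norm_num)).mul_left _).mul_right _).mul_left _
    · have h2 : q ^ 12 - 1 = (q ^ 4 - 1) * (q ^ 8 + q ^ 4 + 1) := by
        obtain ⟨k, hk⟩ : ∃ k, q ^ 4 = k + 1 := ⟨q ^ 4 - 1, by have := Nat.one_le_pow 4 q (by omega); omega⟩
        have h3 : q ^ 12 = (q ^ 4) ^ 3 := by ring
        have h5 : q ^ 8 = (q ^ 4) ^ 2 := by ring
        rw [h3, h5, hk, Nat.add_sub_cancel]
        have : (k + 1) ^ 3 = k * ((k + 1) ^ 2 + (k + 1) + 1) + 1 := by ring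
        rw [this, Nat.add_sub_cancel]
      have h3 := hr.dvd (m := 12) dvd_rfl
      rw [h2] at h3
      exact (((hr.prime.dvd_mul.1 h3).resolve_left (hr.not_dvd_sub (by norm_num))).mul_left _).mul_left _
  have hE : ∀ e ∈ ({3, 6, 12} : Finset ℕ), 3 ≤ e ∧ ¬ (q = 2 ∧ e = 6) := by
    simp only [Finset.mem_insert, Finset.mem_singleton, forall_eq_or_imp, forall_eq]
    omega
  obtain ⟨r3, hr3⟩ := exists_prim (e := 3) hq2 (by norm_num) (by omega)
  obtain ⟨r6, hr6⟩ := exists_prim (e := 6) hq2 (by norm_num) (by omega)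
  have h36 : r3 ≠ r6 := by
    rintro rfl
    exact absurd (hr3.unique hr6) (by norm_num)
  have o3 := hr3.odd (by norm_num)
  have o6 := hr6.odd (by norm_num)
  have hq6 : Nat.card F ^ 2 - 1 = q ^ 6 - 1 := by rw [hF', ← pow_mul]
  obtain ⟨g3, hg3⟩ := exists_orderOf_prime (F := F) hr3.prime (by rw [hq6]; exact hr3.dvd (by norm_num))
  obtain ⟨g6, hg6⟩ := exists_orderOf_prime (F := F) hr6.prime (by rw [hq6]; exact hr6.dvd (by norm_num))
  obtain ⟨p, hp⟩ := CharP.exists F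
  have hpr : p.Prime := CharP.char_is_prime F p
  have hf : Fact p.Prime := ⟨hpr⟩
  have hpq : p ∣ q := by
    have h2 : p ∣ q ^ 3 := by
      rw [← hF]
      exact (CharP.cast_eq_zero_iff F p _).1 (FiniteField.cast_card_eq_zero F)
    exact hpr.dvd_of_dvd_pow h2
  have hp3 : p ≠ r3 := by rintro rfl; exact hr3.not_dvd hpq
  have hp6 : p ≠ r6 := by rintro rfl; exact hr6.not_dvd hpq
  have hcop3 : p.Coprime r3 := (Nat.coprime_primes hpr hr3.prime).2 hp3
  have hcop6 : p.Coprime r6 := (Nat.coprime_primes hpr hr6.prime).2 hp6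
  have u3 := ord_p_mul (φ := φ) hφ p hg3 (Nat.odd_iff.2 o3) hcop3
  have u6 := ord_p_mul (φ := φ) hφ p hg6 (Nat.odd_iff.2 o6) hcop6
  have hnp : ∀ a b : ℕ, a ≠ 1 → b ≠ 1 → ¬ (a * b).Prime := fun a b ha hb => Nat.not_prime_mul ha hb
  have hr3p := hr3.prime.two_le
  have hr6p := hr6.prime.two_le
  have hpp := hpr.two_le
  have hne1 : ∀ a b : ℕ, 2 ≤ a → 2 ≤ b → a * b ≠ 1 := by
    intro a b ha hb h
    have := Nat.mul_le_mul ha hb
    omega
  by_cases hp2 : p = 2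
  · subst hp2
    have hF2 : (2 : F) = 0 := by exact_mod_cast CharP.cast_eq_zero F 2
    have hq4 : 4 ≤ q := by
      obtain ⟨k, rfl⟩ := hpq
      omega
    have h3c := three_le_card hq hq4
    have hqe : Even q := even_iff_two_dvd.2 hpq
    obtain ⟨s1, hs1, hs1d⟩ := Nat.exists_prime_and_dvd (n := q - 1) (by omega)
    obtain ⟨s2, hs2, hs2d⟩ := Nat.exists_prime_and_dvd (n := q + 1) (by omega)
    have os1 : Odd s1 := by
      have : Odd (q - 1) := Nat.Even.sub_odd (by omega) hqe odd_one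
      exact this.of_dvd_nat hs1d
    have os2 : Odd s2 := by
      have : Odd (q + 1) := hqe.add_one
      exact this.of_dvd_nat hs2d
    have h12 : s1 ≠ s2 := by
      rintro rfl
      have h5 : s1 ∣ (q + 1) - (q - 1) := Nat.dvd_sub hs2d hs1d
      have h6 : (q + 1) - (q - 1) = 2 := by omega
      rw [h6, Nat.prime_dvd_prime_iff_eq hs1 Nat.prime_two] at h5
      subst h5
      exact absurd os1 (by decide)
    have h13 : s1 ≠ r3 := by rintro rfl; exact hr3.not_dvd_qsub (by norm_num) hs1d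
    have h16 : s1 ≠ r6 := by rintro rfl; exact hr6.not_dvd_qsub (by norm_num) hs1d
    have h23 : s2 ≠ r3 := by rintro rfl; exact hr3.not_dvd_qadd (by norm_num) hs2d
    have h26 : s2 ≠ r6 := by rintro rfl; exact hr6.not_dvd_qadd (by norm_num) hs2d
    have hd1 : q - 1 ∣ q ^ 3 - 1 := by simpa using Nat.sub_dvd_pow_sub_pow q 1 3
    have hd2 : q + 1 ∣ q ^ 6 - 1 := by
      have h5 : q ^ 6 - 1 = (q ^ 3 + 1) * (q ^ 3 - 1) := by
        rw [show q ^ 6 = (q ^ 3) ^ 2 by ring, ← Nat.sq_sub_sq, one_pow]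
      rw [h5]
      have h6 : q + 1 ∣ q ^ 3 + 1 := by simpa using Odd.nat_add_dvd_pow_add_pow q 1 (n := 3) (by decide)
      exact h6.mul_right _
    obtain ⟨k1, hk1⟩ := exists_orderOf_prime (F := F) hs1 (by
      rw [hF']; exact dvd_sq_sub (hs1d.trans hd1))
    obtain ⟨k2, hk2⟩ := exists_orderOf_prime (F := F) hs2 (by rw [hq6]; exact hs2d.trans hd2)
    have v1 := ord_p_mul (φ := φ) hφ 2 hk1 os1 (Nat.coprime_two_left.2 os1)
    have v2 := ord_p_mul (φ := φ) hφ 2 hk2 os2 (Nat.coprime_two_left.2 os2)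
    have hc13 : s1.Coprime r3 := (Nat.coprime_primes hs1 hr3.prime).2 h13
    obtain ⟨c, hc⟩ := exists_dg_order (K := F) (n := s1 * r3) (by
      rw [hF']
      exact hc13.mul_dvd_of_dvd_of_dvd (hs1d.trans hd1) (hr3.dvd dvd_rfl))
    have v3 := ord_odd (φ := φ) hφ (g := dg c) (by rw [orderOf_injective _ dg_injective, hc])
      (os1.mul (Nat.odd_iff.2 o3))
    have hs1p := hs1.two_le
    have hs2p := hs2.two_le
    refine classes_ge hq2 hm {3, 6, 12} hE hd {2 * s1, 2 * s2, 2 * r3, 2 * r6, s1 * r3} ?_ ?_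
    · simp only [Finset.mem_insert, Finset.mem_singleton, forall_eq_or_imp, forall_eq]
      exact ⟨⟨v1, hnp _ _ (by omega) (by omega), hne1 _ _ (by omega) (by omega)⟩,
        ⟨v2, hnp _ _ (by omega) (by omega), hne1 _ _ (by omega) (by omega)⟩,
        ⟨u3, hnp _ _ (by omega) (by omega), hne1 _ _ (by omega) (by omega)⟩,
        ⟨u6, hnp _ _ (by omega) (by omega), hne1 _ _ (by omega) (by omega)⟩,
        ⟨v3, hnp _ _ (by omega) (by omega), hne1 _ _ (by omega) (by omega)⟩⟩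
    · have hodd : (s1 * r3) % 2 = 1 := Nat.odd_iff.1 (os1.mul (Nat.odd_iff.2 o3))
      have : ({2 * s1, 2 * s2, 2 * r3, 2 * r6, s1 * r3} : Finset ℕ).card = 5 := by
        rw [Finset.card_insert_of_notMem, Finset.card_insert_of_notMem, Finset.card_insert_of_notMem,
          Finset.card_insert_of_notMem, Finset.card_singleton]
        all_goals
          simp only [Finset.mem_insert, Finset.mem_singleton, not_or]
          omega
      rw [this, show ({3, 6, 12} : Finset ℕ).card = 3 by decide]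
      omega
  · have hF2 : (2 : F) ≠ 0 := by
      intro h
      have h3 : ((2 : ℕ) : F) = 0 := by exact_mod_cast h
      rw [CharP.cast_eq_zero_iff F p] at h3
      exact hp2 ((Nat.prime_dvd_prime_iff_eq hpr Nat.prime_two).1 h3)
    have h2c := two_le_card hq2
    have v4 := ord_four_p (φ := φ) hφ p hF2 hp2
    have v5 := ord_two_mul (φ := φ) hφ hF2 hg3 (Nat.odd_iff.2 o3)
    have opp : p % 2 = 1 := Nat.odd_iff.1 (hpr.odd_of_ne_two hp2)
    refine classes_ge hq2 hm {3, 6, 12} hE hd {4, 2 * p, 4 * p, 2 * r3, p * r3, p * r6} ?_ ?_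
    · simp only [Finset.mem_insert, Finset.mem_singleton, forall_eq_or_imp, forall_eq]
      exact ⟨⟨v4.of_dvd ⟨p, rfl⟩ (by omega), by decide, by decide⟩,
        ⟨v4.of_dvd ⟨2, by ring⟩ (by omega), hnp _ _ (by omega) (by omega), hne1 _ _ (by omega) (by omega)⟩,
        ⟨v4, hnp _ _ (by omega) (by omega), hne1 _ _ (by omega) (by omega)⟩,
        ⟨v5, hnp _ _ (by omega) (by omega), hne1 _ _ (by omega) (by omega)⟩,
        ⟨u3, hnp _ _ (by omega) (by omega), hne1 _ _ (by omega) (by omega)⟩,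
        ⟨u6, hnp _ _ (by omega) (by omega), hne1 _ _ (by omega) (by omega)⟩⟩
    · have hodd3 : (p * r3) % 2 = 1 := Nat.odd_iff.1 ((Nat.odd_iff.2 opp).mul (Nat.odd_iff.2 o3))
      have hodd6 : (p * r6) % 2 = 1 := Nat.odd_iff.1 ((Nat.odd_iff.2 opp).mul (Nat.odd_iff.2 o6))
      have h36' : p * r3 ≠ p * r6 := fun h => h36 (Nat.eq_of_mul_eq_mul_left hpr.pos h)
      have : ({4, 2 * p, 4 * p, 2 * r3, p * r3, p * r6} : Finset ℕ).card = 6 := by
        rw [Finset.card_insert_of_notMem, Finset.card_insert_of_notMem, Finset.card_insert_of_notMem,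
          Finset.card_insert_of_notMem, Finset.card_insert_of_notMem, Finset.card_singleton]
        all_goals
          simp only [Finset.mem_insert, Finset.mem_singleton, not_or]
          omega
      rw [this, show ({3, 6, 12} : Finset ℕ).card = 3 by decide]
      omega

end Cfsg.Agent.H868.KTwD4
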