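import Cfsg.Agent.H897.MeetPSL

/-!
# The `PSL` row of the Sylow intersections for all odd primes (helper868, task 1171 of helper903)

`H897.MeetPSL.meet_PSL` with `3 ≤ p` instead of `5 ≤ p`.
-/

set_option autoImplicit false

namespace Cfsg.Agent.H868.MeetOddPSL

open Matrix Cfsg.Agent.H903.SylMeet Cfsg.Agent.H903.SylSemi Cfsg.Agent.H199.PslAut
open Cfsg.Agent.ClassicalGeometry.AutPSL.Root
open Cfsg.Agent.ClassicalGeometry.AutPSL.Auto
open Cfsg.Agent.H897.MeetPSL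

theorem meet_PSL {p n : ℕ} [Fact p.Prime] (hp : 3 ≤ p) {F : Type} [Field F] [Fintype F]
    (hn : 2 ≤ n) (_h2 : n = 2 → 4 ≤ Fintype.card F)
    (h : Cfsg.Agent.H903.SylSemi.SepSL p F (Fin n → F)) :
    Cfsg.Agent.H903.SylMeet.Meet p (Matrix.ProjectiveSpecialLinearGroup (Fin n) F) := by
  intro P hP
  refine good_of_sep (π := (pr : Matrix.SpecialLinearGroup (Fin n) F →*
      Matrix.ProjectiveSpecialLinearGroup (Fin n) F)) (ρ := rho n F)
    (Y := fun y => ∃ θ, Semi F y θ) (X' := IsSLMap F (Fin n → F)) pr_surjective rho_injective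
    ?_ ?_ ?_ (fun y hy => hy) ?_ ?_ hP ?_ ?_ ?_ h
  · exact ⟨RingEquiv.refl F, fun u v => rfl, fun a v => rfl⟩
  · rintro y y' ⟨θ, h1, h2⟩ ⟨θ', h1', h2'⟩
    refine ⟨θ'.trans θ, fun u v => ?_, fun a v => ?_⟩
    · rw [Equiv.Perm.mul_apply, Equiv.Perm.mul_apply, Equiv.Perm.mul_apply, h1', h1]
    · rw [Equiv.Perm.mul_apply, Equiv.Perm.mul_apply, h2', h2]
      rfl
  · intro a
    refine ⟨RingEquiv.refl F, fun u v => ?_, fun b v => ?_⟩
    · rw [scal_apply, scal_apply, scal_apply, smul_add]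
    · rw [scal_apply, scal_apply]
      exact smul_comm _ _ _
  · intro s
    refine ⟨fun u v => ?_, fun b v => ?_⟩
    · rw [rho_apply, rho_apply, rho_apply, mulVec_add]
    · rw [rho_apply, rho_apply, mulVec_smul]
      rfl
  · intro s
    refine ⟨RingEquiv.refl F, fun u v => ?_, fun b v => ?_⟩
    · rw [rho_apply, rho_apply, rho_apply, mulVec_add]
    · rw [rho_apply, rho_apply, mulVec_smul]
      rfl
  · intro β hβ
    obtain ⟨g, σ, rfl⟩ := form_of_pgroup hn (by omega) hP hβ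
    exact ⟨smap g σ, ⟨σ, semi_smap g σ⟩, ind_smap g σ⟩
  · rintro y ⟨θ, hθ⟩ hy
    obtain ⟨A, rfl⟩ := exists_smap hθ
    have h1 : Psi n F A * phi n F θ = 1 :=
      Ind.unique pr_surjective rho_injective (ind_smap A θ) hy
    obtain ⟨⟨u, rfl⟩, h2⟩ := Psi_phi_eq hn (g := A) (σ := θ) (τ := 1) (by rw [h1, map_one])
    refine ⟨u, ?_⟩
    ext v : 1
    rw [smap_apply, h2, scal_apply, Cfsg.Agent.H199.PslAut.coe_scal]
    change (scalar (Fin n) (u : F)) *ᵥ v = (u : F) • v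
    rw [Matrix.scalar_apply, Matrix.diagonal_const_mulVec]
  · rintro g ⟨f, hf, hdet⟩
    have hd : (LinearMap.toMatrix' f).det = 1 := by
      rw [LinearMap.det_toMatrix']; exact hdet
    refine ⟨(⟨LinearMap.toMatrix' f, hd⟩ : Matrix.SpecialLinearGroup (Fin n) F), ?_⟩
    ext v : 1
    refine (rho_apply _ v).trans ?_
    change (LinearMap.toMatrix' f) *ᵥ v = g v
    rw [LinearMap.toMatrix'_mulVec, hf]

end Cfsg.Agent.H868.MeetOddPSL
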