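import Cfsg.Agent.H152.MeetOmega

/-!
# The orthogonal rows of the Sylow intersections for all odd primes (helper868, task 1171 of helper903)

`H152.MeetOmega.meet_POmega_plus/_minus/_odd` with `3 ≤ p` instead of `5 ≤ p`; `5 ≤ m` for plus type (the
restriction on `p` is only needed for triality).
-/

set_option autoImplicit false

namespace Cfsg.Agent.H868.MeetOddOmega

open Cfsg QuadraticMap Cfsg.Agent.H903.SylMeet Cfsg.Agent.H903.SylSemi
open Cfsg.Agent.LieClassical.OrthCore Cfsg.Agent.LieClassical.OrthTrans Cfsg.Agent.LieClassical.QuadForms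
open Cfsg.Agent.AutOrth.Main Cfsg.Agent.H208.Dict Cfsg.Agent.ClassicalGeometry.OrthAut1
open Cfsg.Agent.H152.MeetOmega

variable {p m : ℕ} [hp : Fact p.Prime] {F : Type*} [Field F]

/-- Plus type, `m > 4`. -/
theorem meet_POmega_plus [Finite F] (_hp3 : 3 ≤ p) (hm : 4 < m) (h : SepO p F (quadFormPlus m F)) :
    Meet p (POmega F (quadFormPlus m F)) := by
  have h1 : ∀ P : Subgroup (MulAut (POmega F (quadFormPlus m F))), IsPGroup p P → ∀ β ∈ P,
    AutOrth.Main.Ind (quadFormPlus m F) β := fun _ _ β _ => all_plus hm β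
  revert h h1
  rw [← coe_plusForm]
  intro h h1
  exact meet_of (good_plus (by omega)) h1 h

/-- Minus type. -/
theorem meet_POmega_minus [Finite F] (_hp3 : 3 ≤ p) (hm : 3 ≤ m) (a b : F)
    (hab : ∀ z₁ z₂ : F, z₁ ^ 2 + a * z₁ * z₂ + b * z₂ ^ 2 = 0 → z₁ = 0 ∧ z₂ = 0)
    (h : SepO p F (quadFormMinus m F a b)) :
    Meet p (POmega F (quadFormMinus m F a b)) :=
  H152.MeetOmega.meet_POmega_minus hm a b hab h

/-- Odd dimension. -/
theorem meet_POmega_odd [Fintype F] (_hp3 : 3 ≤ p) (hm : 3 ≤ m) (ho : Odd (Fintype.card F))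
    (h : SepO p F (quadFormOdd m F)) : Meet p (POmega F (quadFormOdd m F)) :=
  H152.MeetOmega.meet_POmega_odd hm ho h

end Cfsg.Agent.H868.MeetOddOmega
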