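import Cfsg.Agent.H386.HalfTwo.Count
import Cfsg.Agent.SporadicA.M11Facts2
import Cfsg.Agent.SectRankFour.AutM11
import Cfsg.Agent.UGT.End.MEleven

/-!
# `(2+1/2)`-transitive groups (S3576): the rows `M₁₁` of degree 11 and 12 (helper868)
-/

set_option autoImplicit false
set_option linter.unusedSectionVars false

namespace Cfsg.Agent.H868.HalfM11

open MulAction Cfsg.Agent.H384.TwoTrans Cfsg.Agent.H386.HalfTwo

universe u v

variable {G : Type u} {Ω : Type v} [Group G] [MulAction G Ω] {T : Subgroup G} {m : ℕ}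

theorem eq_top_of_inner (A : AS G Ω T) (inn : ∀ α : MulAut T, ∃ k, α = MulAut.conj k) : T = ⊤ := by
  have := A.normal
  rw [eq_top_iff]
  intro g _
  obtain ⟨k, hk⟩ := inn (MulAut.conjNormal g)
  have h1 : (k : G)⁻¹ * g ∈ Subgroup.centralizer (T : Set G) := by
    rw [Subgroup.mem_centralizer_iff]
    intro t ht
    have h2 := congrArg (fun (α : MulAut T) => ((α ⟨t, ht⟩ : T) : G)) hk
    have h3 : g * t * g⁻¹ = k * t * (k : G)⁻¹ := by simpa using h2
    have h4 : g * t = k * t * (k : G)⁻¹ * g := by rw [← h3]; group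
    have h5 : (k : G)⁻¹ * g * t = t * ((k : G)⁻¹ * g) := by
      rw [mul_assoc, h4]; group
    exact h5.symm
  rw [A.cent, Subgroup.mem_bot] at h1
  have h2 : g = k := (inv_mul_eq_one.1 h1).symm
  rw [h2]
  exact k.2

theorem isM11 (A : AS G Ω T) (h : Cfsg.Spor.IsoM11 T) : Cfsg.IsM11 G := by
  have := A.finG
  have hT : T = ⊤ := eq_top_of_inner A (fun α =>
    Cfsg.Agent.SectRankFour.AutM11.exists_conj (Cfsg.Agent.UGT.End.MEleven.isM11 h) α)
  have e : T ≃* G := (MulEquiv.subgroupCongr hT).trans Subgroup.topEquiv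
  have := A.simple
  have hs : IsSimpleGroup G := e.symm.isSimpleGroup
  exact ⟨hs, by rw [← Nat.card_congr e.toEquiv, (Cfsg.Agent.UGT.End.MEleven.isM11 h).2]⟩

theorem ncard_fix_conj (g t : G) : ({c : Ω | (g * t * g⁻¹) • c = c} : Set Ω).ncard =
    ({c : Ω | t • c = c} : Set Ω).ncard := by
  have h1 : ({c : Ω | (g * t * g⁻¹) • c = c} : Set Ω) = (fun c => g • c) '' {c : Ω | t • c = c} := by
    ext c
    constructor
    · intro h
      refine ⟨g⁻¹ • c, ?_, smul_inv_smul _ _⟩
      show t • g⁻¹ • c = g⁻¹ • c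
      rw [eq_inv_smul_iff, smul_smul, smul_smul]
      exact h
    · rintro ⟨d, hd, rfl⟩
      have hd' : t • d = d := hd
      show (g * t * g⁻¹) • g • d = g • d
      rw [mul_smul, mul_smul, inv_smul_smul, hd']
  rw [h1, Set.ncard_image_of_injective _ (MulAction.injective g)]

section

variable [Finite G] [Finite Ω]

theorem mod_fix {p : ℕ} (hp : p.Prime) {y : G} (hyp : orderOf y = p) :
    Nat.card Ω ≡ ({c : Ω | y • c = c} : Set Ω).ncard [MOD p] := by
  have := Fact.mk hp
  have h1 : IsPGroup p (Subgroup.zpowers y) := IsPGroup.of_card (n := 1) (by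
    rw [Nat.card_zpowers, hyp, pow_one])
  have h2 := h1.card_modEq_card_fixedPoints Ω
  have h3 : fixedPoints (Subgroup.zpowers y) Ω = {c : Ω | y • c = c} := by
    ext c
    constructor
    · intro h
      exact h ⟨y, Subgroup.mem_zpowers y⟩
    · rintro h ⟨g, hg⟩
      obtain ⟨k, rfl⟩ := Subgroup.mem_zpowers_iff.1 hg
      have h4 : y ∈ stabilizer G c := h
      exact (Subgroup.zpow_mem _ h4 k : y ^ k ∈ stabilizer G c)
  rw [h3, Nat.card_coe_set_eq] at h2
  exact h2

theorem orderOf_conj (x y : G) : orderOf (y * x * y⁻¹) = orderOf x := by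
  have := orderOf_injective (MulAut.conj y).toMonoidHom (MulAut.conj y).injective x
  simpa using this

/-- the number of elements of order 3 of `M₁₁` -/
theorem ncard_three (hG : Cfsg.IsM11 G) {u : G} (hu : orderOf u = 3) : ({t : G | orderOf t = 3} : Set G).ncard = 440 := by
  have h1 := Cfsg.Agent.SporadicA.M11Facts2.card_centralizer_three hG hu
  have h3 := (Subgroup.centralizer ({u} : Set G)).index_mul_card
  rw [h1, hG.2] at h3
  have h2 : (Subgroup.centralizer ({u} : Set G)).index = ({t : G | orderOf t = 3} : Set G).ncard := by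
    have h5 : (Subgroup.centralizer ({u} : Set G)).index = (MulAction.orbit (ConjAct G) u).ncard := by
      rw [← MulAction.index_stabilizer, Subgroup.centralizer_eq_comap_stabilizer]
      exact Subgroup.index_comap_of_surjective _ ConjAct.toConjAct.surjective
    have h6 : orbit (ConjAct G) u = {t : G | orderOf t = 3} := by
      ext t
      rw [ConjAct.mem_orbit_conjAct]
      constructor
      · intro h
        obtain ⟨c, hc⟩ := isConj_iff.1 h
        show orderOf t = 3
        rw [← orderOf_conj t c, hc, hu]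
      · intro h
        exact Cfsg.Agent.SporadicA.M11Facts2.isConj_three hG h hu
    rw [h5, h6]
  omega

theorem count3 (hG : Cfsg.IsM11 G) (h2 : IsMultiplyPretransitive G Ω 2) {a b : Ω} (hab : a ≠ b) {u : G}
    (hu : orderOf u = 3) : 440 * (({c : Ω | u • c = c} : Set Ω).ncard * (({c : Ω | u • c = c} : Set Ω).ncard - 1)) =
      Nat.card Ω * (Nat.card Ω - 1) * ({t : G | orderOf t = 3 ∧ t • a = a ∧ t • b = b} : Set G).ncard := by
  rw [← ncard_three hG hu]
  refine fix_count ?_ {t : G | orderOf t = 3} ?_ ?_ hab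
  · rw [MulAction.is_two_pretransitive_iff] at h2
    intro a b c d h3 h4
    exact h2 h3 h4
  · intro t ht g
    show orderOf _ = 3
    rw [orderOf_conj]
    exact ht
  · intro t ht
    obtain ⟨g, rfl⟩ := isConj_iff.1 (Cfsg.Agent.SporadicA.M11Facts2.isConj_three hG hu ht)
    exact ncard_fix_conj g u

theorem ncard_le (a b : Ω) : ({t : G | orderOf t = 3 ∧ t • a = a ∧ t • b = b} : Set G).ncard + 1 ≤ Nat.card (GG G a b) := by
  have h2 : ({t : G | orderOf t = 3 ∧ t • a = a ∧ t • b = b} : Set G) ⊆ (GG G a b : Set G) \ {1} := by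
    rintro t ⟨h3, h4⟩
    refine ⟨mem_GG.2 h4, ?_⟩
    intro h
    rw [Set.mem_singleton_iff] at h
    subst h
    rw [orderOf_one] at h3
    omega
  have h3 := Set.ncard_le_ncard h2 (Set.toFinite _)
  rw [Set.ncard_sdiff_singleton_of_mem (one_mem _)] at h3
  have h4 : ((GG G a b : Set G)).ncard = Nat.card (GG G a b) := (Nat.card_coe_set_eq _).symm
  rw [h4] at h3
  have h5 : 0 < Nat.card (GG G a b) := Nat.card_pos
  omega

end

/-- **`M₁₁` of degree 11** -/
theorem m11 (A : AS G Ω T) (H : Half G Ω m) (h : Cfsg.Spor.IsoM11 T) (hn : Nat.card Ω = 11) :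
    m = 1 ∨ IsMultiplyPretransitive G Ω 3 := by
  classical
  have := A.finG
  have := A.finΩ
  have := A.faithful
  have hG := isM11 A h
  have hnt : Nontrivial Ω := Finite.one_lt_card_iff_nontrivial.1 (by omega)
  have hd := H.dvd
  rw [hn] at hd
  by_cases h9 : 5 ≤ m
  · exact Or.inr (H.three_of_lt (by omega) A.two (by omega))
  by_contra hcon
  push Not at hcon
  have hm : m = 3 := by
    have : m ≤ 4 := by omega
    interval_cases m <;> omega
  subst hm
  obtain ⟨a, b, hab⟩ := exists_pair_ne Ω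
  have hc := card_eq A.two hab
  rw [hG.2, hn] at hc
  have hc2 : Nat.card (GG G a b) = 72 := by omega
  obtain ⟨c, hca, hcb⟩ : ∃ c : Ω, c ≠ a ∧ c ≠ b := by
    by_contra hcon
    push Not at hcon
    have h1 : (Set.univ : Set Ω) ⊆ {a, b} := by
      intro x _
      by_cases hx : x = a
      · exact Or.inl hx
      · exact Or.inr (hcon x hx)
    have h2 := Set.ncard_le_ncard h1 (Set.toFinite _)
    rw [Set.ncard_univ, Set.ncard_pair hab] at h2
    omega
  have hC := H.orb a b c hab hca hcb
  -- the kernel on the orbit of `c`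
  let φ : GG G a b →* Equiv.Perm (orbit (GG G a b) c) := MulAction.toPermHom _ _
  have h1 : Nat.card φ.range ∣ 6 := by
    have := Subgroup.card_subgroup_dvd_card φ.range
    rwa [Nat.card_perm, hC] at this
  have h2 : Nat.card φ.ker * Nat.card φ.range = 72 := by
    rw [← hc2, ← Subgroup.index_ker, Subgroup.card_mul_index]
  have h3 : 3 ∣ Nat.card φ.ker := by
    have : Nat.card φ.range ≤ 6 := Nat.le_of_dvd (by norm_num) h1
    interval_cases hr : Nat.card φ.range <;> omega
  have := Fact.mk Nat.prime_three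
  obtain ⟨x, hx⟩ := exists_prime_orderOf_dvd_card' 3 h3
  have hx' : orderOf ((x : GG G a b) : G) = 3 := by
    rw [← hx, Subgroup.orderOf_coe, Subgroup.orderOf_coe]
  have h4 := count3 hG A.two hab hx'
  have h5 := ncard_le (G := G) a b
  rw [hn] at h4
  rw [hc2] at h5
  have h6 : insert a (insert b (orbit (GG G a b) c)) ⊆ ({c : Ω | ((x : GG G a b) : G) • c = c} : Set Ω) := by
    rintro y (rfl | rfl | hy)
    · exact (mem_GG.1 (x : GG G y b).2).1
    · exact (mem_GG.1 (x : GG G a y).2).2
    · have h7 := x.2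
      rw [MonoidHom.mem_ker] at h7
      have h8 := congrArg (fun σ : Equiv.Perm (orbit (GG G a b) c) => ((σ ⟨y, hy⟩ : orbit (GG G a b) c) : Ω)) h7
      exact h8
  have h7 := Set.ncard_le_ncard h6 (Set.toFinite _)
  have h8 : a ∉ insert b (orbit (GG G a b) c) := by
    rintro (h9 | h9)
    · exact hab h9
    · obtain ⟨g, hg⟩ := h9
      exact ne_of_smul (mem_GG.1 g.2).1 hca hg
  have h9 : b ∉ orbit (GG G a b) c := by
    rintro ⟨g, hg⟩
    exact ne_of_smul (mem_GG.1 g.2).2 hcb hg
  rw [Set.ncard_insert_of_notMem h8, Set.ncard_insert_of_notMem h9, ← Nat.card_coe_set_eq (orbit (GG G a b) c), hC] at h7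
  set f := ({c : Ω | ((x : GG G a b) : G) • c = c} : Set Ω).ncard with hf
  have h10 : 5 * 4 ≤ f * (f - 1) := Nat.mul_le_mul h7 (by omega)
  omega

/-- **`M₁₁` of degree 12** -/
theorem m11' (A : AS G Ω T) (H : Half G Ω m) (h : Cfsg.Spor.IsoM11 T) (hn : Nat.card Ω = 12) :
    m = 1 ∨ IsMultiplyPretransitive G Ω 3 := by
  classical
  have := A.finG
  have := A.finΩ
  have := A.faithful
  have hG := isM11 A h
  have hnt : Nontrivial Ω := Finite.one_lt_card_iff_nontrivial.1 (by omega)
  have hd := H.dvd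
  rw [hn] at hd
  by_cases h9 : 6 ≤ m
  · exact Or.inr (H.three_of_lt (by omega) A.two (by omega))
  by_contra hcon
  push Not at hcon
  obtain ⟨a, b, hab⟩ := exists_pair_ne Ω
  have hc := card_eq A.two hab
  rw [hG.2, hn] at hc
  have hc2 : Nat.card (GG G a b) = 60 := by omega
  have hm5 := H.prime_le hab Nat.prime_five (by rw [hc2]; norm_num)
  have hm : m = 5 := by omega
  subst hm
  have := Fact.mk Nat.prime_three
  obtain ⟨x, hx⟩ := exists_prime_orderOf_dvd_card' (G := GG G a b) 3 (by rw [hc2]; norm_num)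
  have hx' : orderOf (x : G) = 3 := by
    rw [← hx, Subgroup.orderOf_coe]
  have hP : IsPGroup 3 (Subgroup.zpowers (x : G)) := IsPGroup.of_card (n := 1) (by
    rw [Nat.card_zpowers, hx', pow_one])
  have hle : Subgroup.zpowers (x : G) ≤ GG G a b := by
    rw [Subgroup.zpowers_le]; exact x.2
  obtain ⟨c, hca, hcb⟩ : ∃ c : Ω, c ≠ a ∧ c ≠ b := by
    by_contra hcon
    push Not at hcon
    have h1 : (Set.univ : Set Ω) ⊆ {a, b} := by
      intro x _
      by_cases hx : x = a
      · exact Or.inl hx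
      · exact Or.inr (hcon x hx)
    have h2 := Set.ncard_le_ncard h1 (Set.toFinite _)
    rw [Set.ncard_univ, Set.ncard_pair hab] at h2
    omega
  have hC := H.orb a b c hab hca hcb
  obtain ⟨e, hea, heb, hec⟩ : ∃ e : Ω, e ≠ a ∧ e ≠ b ∧ e ∉ orbit (GG G a b) c := by
    by_contra hcon
    push Not at hcon
    have h1 : (Set.univ : Set Ω) ⊆ insert a (insert b (orbit (GG G a b) c)) := by
      intro x _
      by_cases hx : x = a
      · exact Or.inl hx
      by_cases hx2 : x = b
      · exact Or.inr (Or.inl hx2)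
      · exact Or.inr (Or.inr (hcon x hx hx2))
    have h2 := Set.ncard_le_ncard h1 (Set.toFinite _)
    have h3 := Set.ncard_insert_le a (insert b (orbit (GG G a b) c))
    have h4 := Set.ncard_insert_le b (orbit (GG G a b) c)
    rw [Set.ncard_univ] at h2
    rw [← Nat.card_coe_set_eq (orbit (GG G a b) c), hC] at h4
    omega
  obtain ⟨d, hd, hdx⟩ := H.exists_fix hab hca hcb Nat.prime_three (by norm_num) hP hle
  obtain ⟨d', hd', hdx'⟩ := H.exists_fix hab hea heb Nat.prime_three (by norm_num) hP hle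
  have hdx1 := hdx x (Subgroup.mem_zpowers _)
  have hdx2 := hdx' x (Subgroup.mem_zpowers _)
  have h4 := count3 hG A.two hab hx'
  have h5 := ncard_le (G := G) a b
  have h6 := mod_fix (Ω := Ω) Nat.prime_three hx'
  rw [hn] at h4 h6
  rw [hc2] at h5
  set f := ({c : Ω | (x : G) • c = c} : Set Ω).ncard with hf
  have hmov : ∀ y z : Ω, y ∈ orbit (GG G a b) z → z ≠ a → z ≠ b → y ≠ a ∧ y ≠ b := by
    rintro _ z ⟨g, rfl⟩ h1 h2
    exact ⟨ne_of_smul (mem_GG.1 g.2).1 h1, ne_of_smul (mem_GG.1 g.2).2 h2⟩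
  have h7 : ({a, b, d, d'} : Set Ω).ncard = 4 := by
    obtain ⟨e1, e2⟩ := hmov d c hd hca hcb
    obtain ⟨e3, e4⟩ := hmov d' e hd' hea heb
    have e5 : d ≠ d' := by
      rintro rfl
      apply hec
      rw [← orbit_eq_iff.2 hd, orbit_eq_iff.2 hd']
      exact mem_orbit_self _
    rw [Set.ncard_insert_of_notMem, Set.ncard_insert_of_notMem, Set.ncard_pair e5]
    · rintro (h | h)
      · exact e2 h.symm
      · exact e4 h.symm
    · rintro (h | h | h)
      · exact hab h
      · exact e1 h.symm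
      · exact e3 h.symm
  have h8 : ({a, b, d, d'} : Set Ω) ⊆ {c : Ω | (x : G) • c = c} := by
    rintro y (rfl | rfl | rfl | rfl)
    · exact (mem_GG.1 x.2).1
    · exact (mem_GG.1 x.2).2
    · exact hdx1
    · exact hdx2
  have h9 := Set.ncard_le_ncard h8 (Set.toFinite _)
  rw [h7] at h9
  have h10 : 6 ≤ f := by
    rw [Nat.ModEq] at h6
    omega
  have h11 : 6 * 5 ≤ f * (f - 1) := Nat.mul_le_mul h10 (by omega)
  omega

end Cfsg.Agent.H868.HalfM11
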