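import Cfsg.Agent.H868.NormE8
import Cfsg.Agent.ClassificationK.GTwoSylow
import Cfsg.Agent.S1059

/-!
# Normal elementary abelian subgroups of order 8 in the Sylow 2-subgroups of `G₂(q)`, `q ≡ 3, 5 (mod 8)` (helper868)
-/

set_option autoImplicit false

namespace Cfsg.Agent.H868.NormE8G

open Cfsg Cfsg.Agent.H100.NormRank Cfsg.Agent.H326.NormEight
open Cfsg.Agent.ClassificationK.GTwoModel

theorem exists_m (q : ℕ) (h : q % 8 = 3 ∨ q % 8 = 5) : ∃ m, Odd m ∧ q ^ 2 - 1 = 4 * 2 ^ 1 * m := by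
  rcases h with h | h
  · refine ⟨8 * (q / 8) ^ 2 + 6 * (q / 8) + 1, ⟨4 * (q / 8) ^ 2 + 3 * (q / 8), by ring⟩, ?_⟩
    have h1 : q = 8 * (q / 8) + 3 := by omega
    have h2 : q ^ 2 = 4 * 2 ^ 1 * (8 * (q / 8) ^ 2 + 6 * (q / 8) + 1) + 1 := by
      conv_lhs => rw [h1]
      ring
    omega
  · refine ⟨8 * (q / 8) ^ 2 + 10 * (q / 8) + 3, ⟨4 * (q / 8) ^ 2 + 5 * (q / 8) + 1, by ring⟩, ?_⟩
    have h1 : q = 8 * (q / 8) + 5 := by omega
    have h2 : q ^ 2 = 4 * 2 ^ 1 * (8 * (q / 8) ^ 2 + 10 * (q / 8) + 3) + 1 := by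
      conv_lhs => rw [h1]
      ring
    omega

theorem lower_G23 {F : Type} [Field F] [Fintype F] (hF : Fintype.card F % 8 = 3 ∨ Fintype.card F % 8 = 5)
    (S : Sylow 2 ↥(Cfsg.Lie.chevG2.group F)) : Lower ↥(S : Subgroup ↥(Cfsg.Lie.chevG2.group F)) 3 := by
  have hp : Fact (Nat.Prime 2) := ⟨Nat.prime_two⟩
  have hcard := Cfsg.Agent.S1059.result (F := F) rfl
  have hodd : Odd (Fintype.card F) := by
    rw [Nat.odd_iff]
    omega
  obtain ⟨k, hk, ⟨e⟩⟩ := ClassificationK.GTwoSylow.exists_equiv hodd hcard S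
  obtain ⟨m, hm, hqm⟩ := exists_m _ hF
  have h1 : 4 * (2 * 2 ^ k) ^ 2 = 64 := by
    have h2 := S.card_eq_multiplicity
    rw [hcard, ClassificationK.GTwoSylow.factorization_card _ 1 m hodd Fintype.one_lt_card hm hqm] at h2
    rw [← T.card_T, Nat.card_congr e.toEquiv]
    exact h2
  have h2 : k = 1 := by
    have h3 : 4 * (2 * 2 ^ k) ^ 2 = 16 * (2 ^ k) ^ 2 := by ring
    have h4 : (2 ^ k) ^ 2 = 4 := by omega
    have h5 : 2 ^ k = 2 := by nlinarith [Nat.zero_le (2 ^ k)]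
    exact Nat.pow_right_injective le_rfl (by simpa using h5)
  subst h2
  exact NormE8.lower_of_ne8 (Cfsg.Agent.H326.Models.T_ne8.congr e)

end Cfsg.Agent.H868.NormE8G
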