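import Cfsg.Agent.H868.KSL2
import Cfsg.Agent.H92.ExcCount
import Cfsg.Agent.ChevalleyStructure.E6Fixed
import Cfsg.Agent.S1066

/-!
# `k(²E₆(q)) ≥ 12`
-/

set_option autoImplicit false

namespace Cfsg.Agent.H868.KTwE6

open Cfsg Cfsg.Lie Cfsg.Agent.H92.KTools Cfsg.Agent.H92.ExcSL2 Cfsg.Agent.H92.ExcOrd Cfsg.Agent.H92.ExcCount
  Cfsg.Agent.H436 Cfsg.Agent.OrdDiv Cfsg.Agent.H868.KSL2
  Cfsg.Agent.ChevalleyStructure Cfsg.Agent.ChevalleyStructure.Elts Cfsg.Agent.ChevalleyStructure.SL2Hom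
open Cfsg.Agent.ChevalleyStructure.E6Fixed (hE6 x_mem prs)

variable {F : Type} [Field F]

theorem l46 : 46 < chevE6.nroots := by decide
theorem l39 : 39 < chevE6.nroots := by decide
theorem l56 : 56 < chevE6.nroots := by decide
theorem l36 : 36 < chevE6.nroots := by decide

/-- the `SL₂` of the pair `p₁, p₆` -/
noncomputable def P (F : Type) [Field F] : SL2 F →* ↥(chevE6.group F) :=
  KSL2.mulHom (ph (F := F) hE6 l56) (ph (F := F) hE6 l36) (fun g g' => ph_commute hE6 l56 l36 (by decide) g g')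

theorem kerPM_P : KerPM (P F) := (kerPM_ph hE6 l56).mulHom _

theorem pair_mem {q : ℕ} {r s : ℕ} (h : (r, s) ∈ prs) {t : F} (ht : t ^ q = t) :
    xG hE6 r t * xG hE6 s t ∈ twistedE6 F q := by
  rw [← E6Fixed.wordG_pair]
  exact E6Fixed.mem_twisted_of_word (Or.inr ⟨t, (r, s), h, by rw [ht]⟩)

theorem P_up_mem {q : ℕ} {t : F} (ht : t ^ q = t) : ((P F (up t) : ↥(chevE6.group F)) : GL chevE6.Idx F) ∈ twistedE6 F q := by
  have h : ((P F (up t) : ↥(chevE6.group F)) : GL chevE6.Idx F) = xG hE6 56 t * xG hE6 36 t := by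
    unfold P
    rw [mulHom_apply, Subgroup.coe_mul, coe_ph, coe_ph, phi_up hE6 l56, phi_up hE6 l36]
  rw [h]
  exact pair_mem (by decide) ht

theorem P_lo_mem {q : ℕ} {t : F} (ht : t ^ q = t) : ((P F (lo t) : ↥(chevE6.group F)) : GL chevE6.Idx F) ∈ twistedE6 F q := by
  have h : ((P F (lo t) : ↥(chevE6.group F)) : GL chevE6.Idx F) = xG hE6 15 t * xG hE6 35 t := by
    unfold P
    rw [mulHom_apply, Subgroup.coe_mul, coe_ph, coe_ph, phi_lo hE6 l56, phi_lo hE6 l36]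
    rfl
  rw [h]
  exact pair_mem (by decide) ht

theorem neg_one_pow {q : ℕ} [Finite F] (hq : IsPrimePow q) (hF : Nat.card F = q ^ 2) : (-1 : F) ^ q = -1 := by
  have : Fintype F := Fintype.ofFinite F
  rw [Nat.card_eq_fintype_card] at hF
  rcases q.even_or_odd with h | h
  · have h2 : ringChar F = 2 := by
      obtain ⟨p, n, hp, hn, rfl⟩ := hq
      have hp' : p.Prime := Nat.prime_iff.2 hp
      have h3 : p = 2 := ((Nat.prime_dvd_prime_iff_eq Nat.prime_two hp').1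
        (Nat.prime_two.dvd_of_dvd_pow h.two_dvd)).symm
      have h4 : ringChar F ∣ p ^ n := by
        have h5 : ringChar F ∣ (p ^ n) ^ 2 := by
          rw [← hF]
          exact ringChar.dvd (FiniteField.cast_card_eq_zero F)
        have h6 : (ringChar F).Prime := CharP.char_is_prime F _
        exact h6.dvd_of_dvd_pow h5
      have h6 : (ringChar F).Prime := CharP.char_is_prime F _
      rw [← h3]
      exact (Nat.prime_dvd_prime_iff_eq h6 hp').1 (h6.dvd_of_dvd_pow h4)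
    have h3 : (2 : F) = 0 := by
      have := ringChar.Nat.cast_ringChar (R := F)
      rw [h2] at this
      exact_mod_cast this
    have h4 : (-1 : F) = 1 := by linear_combination -h3
    rw [h4, one_pow]
  · exact h.neg_one_pow

/-- composite orders in odd characteristic -/
theorem ords_odd [Finite F] {q : ℕ} (hq : IsPrimePow q) (hF : Nat.card F = q ^ 2) (p : ℕ) [hp : Fact p.Prime] [CharP F p]
    (h2 : p ≠ 2) : HasOrd (twistedE6 F q) 4 ∧ HasOrd (twistedE6 F q) (2 * p) ∧ HasOrd (twistedE6 F q) (4 * p) := by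
  have hF2 : (2 : F) ≠ 0 := by
    intro h
    have h3 : ((2 : ℕ) : F) = 0 := by exact_mod_cast h
    rw [CharP.cast_eq_zero_iff F p] at h3
    exact h2 ((Nat.prime_dvd_prime_iff_eq hp.out Nat.prime_two).1 h3)
  have hm1 := neg_one_pow hq hF
  have h4 : orderOf (ph (F := F) hE6 l46 (wel 1 one_ne_zero)) = 4 := by
    have hinj : Function.Injective (ph (F := F) hE6 l46) :=
      ph_injective hE6 (i := 1) (s := chevE6.simple 3) (by decide) (by decide) (by decide) (by decide)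
    rw [orderOf_injective _ hinj, orderOf_wel hF2]
  have h5 : orderOf (P F (up 1)) = p := kerPM_P.orderOf_up p
  have hcomm : Commute (ph (F := F) hE6 l46 (wel 1 one_ne_zero)) (P F (up 1)) :=
    (ph_commute hE6 l46 l56 (by decide) _ _).mul_right (ph_commute hE6 l46 l36 (by decide) _ _)
  have hcop : Nat.Coprime 4 p := by
    rw [show 4 = 2 ^ 2 by norm_num]
    exact Nat.Coprime.pow_left 2 ((Nat.coprime_primes Nat.prime_two hp.out).2 (Ne.symm h2))
  have hmem : ((ph (F := F) hE6 l46 (wel 1 one_ne_zero) : ↥(chevE6.group F)) : GL chevE6.Idx F) ∈ twistedE6 F q := by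
    rw [coe_ph, wel_eq, map_mul, map_mul, phi_up hE6 l46, phi_lo hE6 l46]
    refine mul_mem (mul_mem (x_mem (by decide) (one_pow _)) ?_) (x_mem (by decide) (one_pow _))
    exact x_mem (r := 25) (by decide) (by rw [inv_one]; exact hm1)
  have hmem' := P_up_mem (F := F) (q := q) (t := 1) (one_pow _)
  have h6 : HasOrd (twistedE6 F q) (4 * p) := by
    refine hasOrd_of_mem (mul_mem hmem hmem') ?_
    rw [← Subgroup.coe_mul, coe_orderOf, hcomm.orderOf_mul_eq_mul_orderOf_of_coprime (by rw [h4, h5]; exact hcop), h4, h5]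
  refine ⟨hasOrd_of_mem hmem (by rw [coe_orderOf, h4]), ?_, h6⟩
  exact h6.of_dvd ⟨2, by ring⟩ (by have := hp.out.pos; omega)

/-- composite orders in characteristic two -/
theorem ords_two [Finite F] {q : ℕ} (hq : IsPrimePow q) (hF : Nat.card F = q ^ 2) (h2 : (2 : F) = 0) :
    HasOrd (twistedE6 F q) 4 ∧ HasOrd (twistedE6 F q) 6 ∧ HasOrd (twistedE6 F q) 12 := by
  have hm1 := neg_one_pow hq hF
  have h5 : orderOf (P F (thr F)) = 3 := by
    rw [kerPM_P.orderOf_eq _ (by rw [orderOf_thr]; decide), orderOf_thr]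
  have h6 : orderOf (ph (F := F) hE6 l46 (up 1) * ph (F := F) hE6 l39 (up 1)) = 4 := by
    rw [← coe_orderOf, Subgroup.coe_mul, coe_ph, coe_ph, phi_up hE6 l46, phi_up hE6 l39]
    exact orderOf_four hE6 l46 l39 (k := 47) (by decide) (by decide) (by decide) (c := -1) (by decide) (by decide)
      (by decide) h2
  have hcomm : Commute (P F (thr F)) (ph (F := F) hE6 l46 (up 1) * ph (F := F) hE6 l39 (up 1)) := by
    have a1 := ph_commute (F := F) hE6 l56 l46 (by decide) (thr F) (up 1)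
    have a2 := ph_commute (F := F) hE6 l56 l39 (by decide) (thr F) (up 1)
    have a3 := ph_commute (F := F) hE6 l36 l46 (by decide) (thr F) (up 1)
    have a4 := ph_commute (F := F) hE6 l36 l39 (by decide) (thr F) (up 1)
    exact (a1.mul_right a2).mul_left (a3.mul_right a4)
  have hmem : ((ph (F := F) hE6 l46 (up 1) * ph (F := F) hE6 l39 (up 1) : ↥(chevE6.group F)) : GL chevE6.Idx F) ∈
      twistedE6 F q := by
    rw [Subgroup.coe_mul, coe_ph, coe_ph, phi_up hE6 l46, phi_up hE6 l39]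
    exact mul_mem (x_mem (by decide) (one_pow _)) (x_mem (by decide) (one_pow _))
  have hmem' : ((P F (thr F) : ↥(chevE6.group F)) : GL chevE6.Idx F) ∈ twistedE6 F q := by
    rw [thr_eq, map_mul, map_mul, map_mul, Subgroup.coe_mul, Subgroup.coe_mul, Subgroup.coe_mul]
    exact mul_mem (mul_mem (mul_mem (P_up_mem (one_pow _)) (P_lo_mem hm1)) (P_up_mem (one_pow _))) (P_up_mem (one_pow _))
  have h7 : HasOrd (twistedE6 F q) 12 := by
    refine hasOrd_of_mem (mul_mem hmem' hmem) ?_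
    rw [← Subgroup.coe_mul, coe_orderOf, hcomm.orderOf_mul_eq_mul_orderOf_of_coprime (by rw [h5, h6]; norm_num), h5, h6]
  exact ⟨hasOrd_of_mem hmem (by rw [coe_orderOf, h6]), h7.of_dvd (by norm_num) (by norm_num), h7⟩

theorem te6 {F : Type} [Field F] [Fintype F] {q : ℕ} (hq : IsPrimePow q) (hF : Fintype.card F = q ^ 2) :
    12 ≤ Nat.card (ConjClasses ↥(Lie.twistedE6 F q)) := by
  have hq2 : 2 ≤ q := hq.two_le
  have hF' : Nat.card F = q ^ 2 := by rw [Nat.card_eq_fintype_card, hF]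
  set G := ↥(Lie.twistedE6 F q) with hG
  have hfin : Finite G := inferInstance
  have h1 : Nat.gcd 3 (q + 1) * Nat.card G =
      q ^ 36 * ((q ^ 2 - 1) * (q ^ 5 + 1) * (q ^ 6 - 1) * (q ^ 8 - 1) * (q ^ 9 + 1) * (q ^ 12 - 1)) := by
    rw [hG, S1066.result hq hF]; ring
  have hm : q * (q ^ 2 - 1) ∣ Nat.card G := mq_dvd (B := q ^ 5 + 1) h1 (Nat.gcd_pos_of_pos_left _ (by norm_num))
    (dvd_pow_self q (by norm_num)) ⟨(q ^ 6 - 1) * (q ^ 8 - 1) * (q ^ 9 + 1) * (q ^ 12 - 1), by ring⟩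
    ((Nat.gcd_dvd_right _ _).trans (add_dvd_pow_add q (by decide)))
  have d5 : q ^ 5 + 1 ∣ q ^ 36 * ((q ^ 2 - 1) * (q ^ 5 + 1) * (q ^ 6 - 1) * (q ^ 8 - 1) * (q ^ 9 + 1) *
    (q ^ 12 - 1)) := ⟨q ^ 36 * ((q ^ 2 - 1) * (q ^ 6 - 1) * (q ^ 8 - 1) * (q ^ 9 + 1) * (q ^ 12 - 1)), by ring⟩
  have d8 : q ^ 8 - 1 ∣ q ^ 36 * ((q ^ 2 - 1) * (q ^ 5 + 1) * (q ^ 6 - 1) * (q ^ 8 - 1) * (q ^ 9 + 1) *
    (q ^ 12 - 1)) := ⟨q ^ 36 * ((q ^ 2 - 1) * (q ^ 5 + 1) * (q ^ 6 - 1) * (q ^ 9 + 1) * (q ^ 12 - 1)), by ring⟩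
  have d9 : q ^ 9 + 1 ∣ q ^ 36 * ((q ^ 2 - 1) * (q ^ 5 + 1) * (q ^ 6 - 1) * (q ^ 8 - 1) * (q ^ 9 + 1) *
    (q ^ 12 - 1)) := ⟨q ^ 36 * ((q ^ 2 - 1) * (q ^ 5 + 1) * (q ^ 6 - 1) * (q ^ 8 - 1) * (q ^ 12 - 1)), by ring⟩
  have d12 : q ^ 12 - 1 ∣ q ^ 36 * ((q ^ 2 - 1) * (q ^ 5 + 1) * (q ^ 6 - 1) * (q ^ 8 - 1) * (q ^ 9 + 1) *
    (q ^ 12 - 1)) := ⟨q ^ 36 * ((q ^ 2 - 1) * (q ^ 5 + 1) * (q ^ 6 - 1) * (q ^ 8 - 1) * (q ^ 9 + 1)), by ring⟩
  have key : ∀ e r n, 3 ≤ e → e ∣ n → q ^ n - 1 ∣ q ^ 36 * ((q ^ 2 - 1) * (q ^ 5 + 1) * (q ^ 6 - 1) *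
      (q ^ 8 - 1) * (q ^ 9 + 1) * (q ^ 12 - 1)) → Prim q e r → r ∣ Nat.card G :=
    fun e r n h3 hen hd hr => hr.dvd_of_eq h1 ((hr.dvd hen).trans hd) (hr.not_dvd_gcd_add h3)
  have key' : ∀ e r n, 3 ≤ e → e ∣ 2 * n → ¬ e ∣ n → q ^ n + 1 ∣ q ^ 36 * ((q ^ 2 - 1) * (q ^ 5 + 1) * (q ^ 6 - 1) *
      (q ^ 8 - 1) * (q ^ 9 + 1) * (q ^ 12 - 1)) → Prim q e r → r ∣ Nat.card G :=
    fun e r n h3 hen hen' hd hr => hr.dvd_of_eq h1 ((hr.dvd_add hen hen').trans hd) (hr.not_dvd_gcd_add h3)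
  have h2 := two_le_card hq2
  obtain ⟨C, hC3, hC⟩ := Cfsg.Agent.H92.ExcOrd.three_ords (X := G) (F := F)
    (fun p hp hc h => ords_odd hq hF' p h) (fun h => ords_two hq hF' h)
  refine classes_ge hq2 hm {3, 4, 8, 10, 12, 18} (by simp) ?_ C
    (fun n hn => hC n hn)
    (by rw [show ({3, 4, 8, 10, 12, 18} : Finset ℕ).card = 6 by decide, hC3]; omega)
  simp only [Finset.mem_insert, Finset.mem_singleton, forall_eq_or_imp, forall_eq]
  exact ⟨fun r => key 3 r 12 (by norm_num) (by norm_num) d12, fun r => key 4 r 12 (by norm_num) (by norm_num) d12,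
    fun r => key 8 r 8 (by norm_num) (by norm_num) d8,
    fun r => key' 10 r 5 (by norm_num) (by norm_num) (by norm_num) d5, fun r => key 12 r 12 (by norm_num) (by norm_num) d12,
    fun r => key' 18 r 9 (by norm_num) (by norm_num) (by norm_num) d9⟩

end Cfsg.Agent.H868.KTwE6
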