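import Mathlib
import Cfsg.Agent.H868.RecPsl2
import Cfsg.Agent.H381.SzSpec
import Cfsg.Agent.H372.SzSpec

/-!
# Recognition of `PSL_4(3 ^ k)` by the spectrum: the row of the Suzuki groups (helper868)
-/

set_option autoImplicit false

namespace Cfsg.Agent.H868.Rec

open Cfsg.Agent.H402.Rec

/-- `n = 3 (mod 4)` does not divide `u² + 1`. -/
theorem not_dvd_sq_add_one {n u : ℕ} (hn : n % 4 = 3) (h : n ∣ u ^ 2 + 1) : False := by
  have h1 : ((u : ZMod n)) ^ 2 = -1 := by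
    have h2 : ((u ^ 2 + 1 : ℕ) : ZMod n) = 0 := (ZMod.natCast_eq_zero_iff _ _).2 h
    push_cast at h2
    exact eq_neg_of_add_eq_zero_left h2
  have h2 : IsSquare (-1 : ZMod n) := ⟨(u : ZMod n), by rw [← h1, sq]⟩
  obtain ⟨x, y, hxy⟩ := Nat.eq_sq_add_sq_of_isSquare_mod_neg_one h2
  have hx : x ^ 2 % 4 = 0 ∨ x ^ 2 % 4 = 1 := by
    have : x % 4 = 0 ∨ x % 4 = 1 ∨ x % 4 = 2 ∨ x % 4 = 3 := by omega
    rcases this with h | h | h | h <;> rw [Nat.pow_mod, h] <;> simp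
  have hy : y ^ 2 % 4 = 0 ∨ y ^ 2 % 4 = 1 := by
    have : y % 4 = 0 ∨ y % 4 = 1 ∨ y % 4 = 2 ∨ y % 4 = 3 := by omega
    rcases this with h | h | h | h <;> rw [Nat.pow_mod, h] <;> simp
  omega

/-- case (ii): `u - 1 = a R3`, `u ± s + 1 = b R4` -/
theorem core_two {q u s a b t : ℤ} (hq : 9 ≤ q) (hs : s ^ 2 = 2 * u) (hs4 : 4 ≤ s) (ha : 1 ≤ a)
    (ht : t = 1 ∨ t = -1) (h3 : u - 1 = a * (q ^ 2 + q + 1)) (h4 : 2 * (u + t * s + 1) = b * (q ^ 2 + 1))
    (ha2 : 2 * a ≤ q - 1) (hab : 2 * a < b → 4 * a ≤ q - 1) : False := by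
  have key : (b - 2 * a) * (q ^ 2 + 1) = 2 * (a * q + 2 + t * s) := by
    have : b * (q ^ 2 + 1) = 2 * (a * (q ^ 2 + q + 1) + 2 + t * s) := by rw [← h3]; linarith
    linarith
  have hs2 : s ^ 2 = 2 * (a * (q ^ 2 + q + 1)) + 2 := by rw [hs, ← h3]; ring
  rcases lt_trichotomy (2 * a) b with h | h | h
  · have h5 := hab h
    have h6 : q ^ 2 + 1 ≤ 2 * (a * q + 2 + s) := by
      have h7 : 1 * (q ^ 2 + 1) ≤ (b - 2 * a) * (q ^ 2 + 1) :=
        mul_le_mul_of_nonneg_right (by linarith) (by positivity)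
      rcases ht with rfl | rfl <;> linarith
    -- `4 s ≥ q² + q - 6`
    have h8 : q ^ 2 + q - 6 ≤ 4 * s := by nlinarith
    have h9 : 2 * s ^ 2 ≤ q ^ 3 + 3 := by nlinarith [sq_nonneg q]
    have h10 : (q ^ 2 + q - 6) ^ 2 ≤ (4 * s) ^ 2 := by
      apply pow_le_pow_left₀ _ h8
      nlinarith
    nlinarith [sq_nonneg (q ^ 2), pow_pos (by linarith : (0 : ℤ) < q) 3]
  · rw [← h] at key
    have h5 : a * q + 2 + t * s = 0 := by linarith
    rcases ht with rfl | rfl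
    · nlinarith
    · have h6 : s = a * q + 2 := by linarith
      rw [h6] at hs2
      -- `a q² (a - 2) + 2 a (q - 1) + 2 = 0`
      have h7 : a * q ^ 2 * (a - 2) + 2 * a * (q - 1) + 2 = 0 := by linarith
      rcases eq_or_lt_of_le ha with h8 | h8
      · rw [← h8] at h7
        nlinarith
      · have : 0 ≤ a * q ^ 2 * (a - 2) := by
          apply mul_nonneg (by positivity) (by linarith)
        nlinarith
  · have h5 : (b - 2 * a) * (q ^ 2 + 1) ≤ -1 * (q ^ 2 + 1) :=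
      mul_le_mul_of_nonneg_right (by linarith) (by positivity)
    have h6 : q ^ 2 + 1 ≤ 2 * s := by
      have h7 : 0 ≤ a * q := by positivity
      rcases ht with rfl | rfl
      · nlinarith
      · nlinarith
    have h9 : s ^ 2 ≤ q ^ 3 + 1 := by nlinarith [sq_nonneg q]
    have h10 : (q ^ 2 + 1) ^ 2 ≤ (2 * s) ^ 2 := by
      apply pow_le_pow_left₀ (by positivity) h6
    nlinarith [sq_nonneg (q ^ 2), pow_pos (by linarith : (0 : ℤ) < q) 3]

/-- case (i): `u ± s + 1 = a R3`, `u ∓ s + 1 = b R4` -/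
theorem core_one {q u s a b t : ℤ} (hq : 27 ≤ q) (hs : s ^ 2 = 2 * u) (hs4 : 4 ≤ s) (ha : 1 ≤ a)
    (ht : t = 1 ∨ t = -1) (h3 : u + t * s + 1 = a * (q ^ 2 + q + 1)) (h4 : 2 * (u - t * s + 1) = b * (q ^ 2 + 1))
    (ha2 : 2 * a ≤ q - 1) (hab : 2 * a < b → 8 * a ≤ q) (hb : b ≠ 2 * a) : False := by
  have key : (b - 2 * a) * (q ^ 2 + 1) = 2 * (a * q - 2 * t * s) := by
    have : b * (q ^ 2 + 1) = 2 * (a * (q ^ 2 + q + 1) - 2 * t * s) := by rw [← h3, ← h4]; ring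
    linarith
  have hs2 : s ^ 2 = 2 * (a * (q ^ 2 + q + 1)) - 2 * t * s - 2 := by rw [hs, ← h3]; ring
  rcases lt_or_gt_of_ne hb with h | h
  · have h5 : (b - 2 * a) * (q ^ 2 + 1) ≤ -1 * (q ^ 2 + 1) :=
      mul_le_mul_of_nonneg_right (by linarith) (by positivity)
    have haq : 0 ≤ a * q := by positivity
    rcases ht with rfl | rfl
    · have h6 : q ^ 2 + 1 + 2 * (a * q) ≤ 4 * s := by linarith
      have h7 : s ^ 2 ≤ 2 * (a * (q ^ 2 + q + 1)) := by linarith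
      have h8 : (q ^ 2 + 1 + 2 * (a * q)) ^ 2 ≤ (4 * s) ^ 2 := by
        apply pow_le_pow_left₀ (by positivity) h6
      have h9 : 4 * (a * q) * (q ^ 2 + 1) ≤ (q ^ 2 + 1 + 2 * (a * q)) ^ 2 := by nlinarith [sq_nonneg (q ^ 2 + 1 - 2 * (a * q)), sq_nonneg (q ^ 2 + 1), sq_nonneg (a * q)]
      have h10 : 4 * (a * 27) * (q ^ 2 + 1) ≤ 4 * (a * q) * (q ^ 2 + 1) := by
        apply mul_le_mul_of_nonneg_right _ (by positivity)
        nlinarith
      nlinarith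
    · nlinarith
  · have h5 := hab h
    have h6 : q ^ 2 + 1 ≤ 2 * (a * q + 2 * s) := by
      have h7 : 1 * (q ^ 2 + 1) ≤ (b - 2 * a) * (q ^ 2 + 1) :=
        mul_le_mul_of_nonneg_right (by linarith) (by positivity)
      rcases ht with rfl | rfl <;> linarith
    have h8 : 3 * q ^ 2 + 4 ≤ 16 * s := by nlinarith
    have h9 : 4 * (s - 1) ^ 2 ≤ q * (q ^ 2 + q + 1) := by
      have h10 : s ^ 2 - 2 * s ≤ 2 * (a * (q ^ 2 + q + 1)) - 2 := by
        rcases ht with rfl | rfl <;> linarith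
      have h11 : 8 * (a * (q ^ 2 + q + 1)) ≤ q * (q ^ 2 + q + 1) := by
        have := mul_le_mul_of_nonneg_right h5 (by positivity : (0 : ℤ) ≤ q ^ 2 + q + 1)
        linarith
      nlinarith
    have h10 : (3 * q ^ 2 - 12) ^ 2 ≤ (16 * (s - 1)) ^ 2 := by
      apply pow_le_pow_left₀ (by nlinarith) (by linarith)
    nlinarith [sq_nonneg (q ^ 2), pow_pos (by linarith : (0 : ℤ) < q) 3]

/-- case (ii), natural number version -/
theorem fin_two {q u s a b T4 : ℕ} (hq : 9 ≤ q) (hs : s * s = 2 * u) (hs4 : 4 ≤ s) (hsu : s ≤ u) (hu : 8 ≤ u)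
    (ha : 1 ≤ a) (h3 : u - 1 = a * (q ^ 2 + q + 1)) (hT : T4 = u + s + 1 ∨ T4 = u - s + 1)
    (h4 : 2 * T4 = b * (q ^ 2 + 1)) (ha2 : 2 * a ≤ q - 1) (hab : 2 * a < b → 4 * a ≤ q - 1) : False := by
  have hss' : (s : ℤ) ^ 2 = 2 * (u : ℤ) := by rw [sq]; exact_mod_cast hs
  have e3 : (u : ℤ) - 1 = a * ((q : ℤ) ^ 2 + q + 1) := by
    have : ((u - 1 : ℕ) : ℤ) = a * ((q : ℤ) ^ 2 + q + 1) := by exact_mod_cast h3
    rw [← this, Nat.cast_sub (by omega)]
    simp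
  have e4 : 2 * (T4 : ℤ) = b * ((q : ℤ) ^ 2 + 1) := by exact_mod_cast h4
  rcases hT with h2 | h2
  · refine core_two (q := (q : ℤ)) (u := (u : ℤ)) (s := s) (a := a) (b := b)
      (t := 1) (by exact_mod_cast hq) hss' (by exact_mod_cast hs4) (by exact_mod_cast ha) (Or.inl rfl)
      e3 ?_ (by omega) (fun _ => by omega)
    rw [← e4, h2]; push_cast; ring
  · refine core_two (q := (q : ℤ)) (u := (u : ℤ)) (s := s) (a := a) (b := b)
      (t := -1) (by exact_mod_cast hq) hss' (by exact_mod_cast hs4) (by exact_mod_cast ha) (Or.inr rfl)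
      e3 ?_ (by omega) (fun _ => by omega)
    rw [← e4, h2, Nat.cast_add, Nat.cast_sub hsu]; push_cast; ring

theorem pow_three_mod {k : ℕ} : (k % 2 = 0 ∧ 3 ^ k % 8 = 1) ∨ (k % 2 = 1 ∧ 3 ^ k % 8 = 3 ∧ ((3 ^ k) ^ 2 + 1) % 5 = 0) := by
  rcases Nat.even_or_odd' k with ⟨j, rfl | rfl⟩
  · left
    refine ⟨by omega, ?_⟩
    rw [pow_mul, Nat.pow_mod]
    norm_num
  · right
    refine ⟨by omega, ?_, ?_⟩
    · rw [pow_succ, pow_mul, Nat.mul_mod, Nat.pow_mod]
      norm_num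
    · rw [← pow_mul, show (2 * j + 1) * 2 = 4 * j + 2 by ring, pow_add, pow_mul, Nat.add_mod, Nat.mul_mod, Nat.pow_mod]
      norm_num

theorem two_pow_mod (m : ℕ) : 2 ^ (2 * m + 1) % 3 = 2 ∧ (2 ^ (2 * m + 1) % 5 = 2 ∨ 2 ^ (2 * m + 1) % 5 = 3) := by
  constructor
  · rw [pow_succ, pow_mul, Nat.mul_mod, Nat.pow_mod]
    norm_num
  · rcases Nat.even_or_odd' m with ⟨j, rfl | rfl⟩
    · left
      rw [show 2 * (2 * j) + 1 = 4 * j + 1 by ring, pow_succ, pow_mul, Nat.mul_mod, Nat.pow_mod]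
      norm_num
    · right
      rw [show 2 * (2 * j + 1) + 1 = 4 * j + 3 by ring, pow_add, pow_mul, Nat.mul_mod, Nat.pow_mod]
      norm_num

/-- The Suzuki groups are not the simple section. -/
theorem sz {k : ℕ} {S : Type*} [Group S] [Finite S] (h : Cand3 true k S) (hS : Cfsg.Lie.IsoSuzuki S) : False := by
  obtain ⟨F, _, _, m, hm, hF, ⟨E⟩⟩ := hS
  replace h := h.of_equiv E
  clear E
  have hsp := Cfsg.Agent.H381.SzSpec.spec hm hF
  have hex : ∀ n ∈ Cfsg.Agent.H98.SzPartition.torusOrders m,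
      ∃ g : Cfsg.Lie.Sz F (2 ^ (m + 1)), orderOf g = n := fun n hn =>
    Cfsg.Agent.H381.SzSpec.exists_torus hm hF hn
  obtain ⟨s, hs, hss, hs4, hsQ, hfac⟩ := Cfsg.Agent.H372.SzSpec.arith hm
  obtain ⟨hu3, hu5⟩ := two_pow_mod m
  have hto : ∀ n, n ∈ Cfsg.Agent.H98.SzPartition.torusOrders m ↔
      n = 2 ^ (2 * m + 1) - 1 ∨ n = 2 ^ (2 * m + 1) + s + 1 ∨ n = 2 ^ (2 * m + 1) - s + 1 := by
    intro n
    rw [Cfsg.Agent.H98.SzPartition.mem_torusOrders_iff, hs]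
  have hoddT : ∀ n ∈ Cfsg.Agent.H98.SzPartition.torusOrders m, n % 2 = 1 := fun n hn =>
    Nat.odd_iff.1 (Cfsg.Agent.H98.SzPartition.odd_of_mem hn)
  have hs3 : s % 3 ≠ 0 := by
    intro h0
    have h1 : 3 ∣ s := Nat.dvd_of_mod_eq_zero h0
    rw [← hs] at h1
    have := (Nat.prime_dvd_prime_iff_eq Nat.prime_three Nat.prime_two).1 (Nat.prime_three.dvd_of_dvd_pow h1)
    omega
  have h3T : ∀ n ∈ Cfsg.Agent.H98.SzPartition.torusOrders m, ¬ 3 ∣ n := by
    intro n hn h0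
    have h12 : s % 3 = 1 ∨ s % 3 = 2 := by omega
    rcases (hto n).1 hn with h1 | h1 | h1 <;> rcases h12 with h2 | h2 <;> omega
  have h3le := h.three_le
  have hodd := h.odd
  have h9 : ¬ ∃ x : Cfsg.Lie.Sz F (2 ^ (m + 1)), orderOf x = 9 := by
    rintro ⟨x, hx⟩
    rcases hsp x with h1 | ⟨n, hn, h1⟩
    · rw [hx] at h1
      exact absurd h1 (by decide)
    · rw [hx] at h1
      exact h3T n hn ((by decide : 3 ∣ 9).trans h1)
  obtain ⟨⟨x3, hx3⟩, ⟨x4, hx4⟩⟩ : (∃ x : Cfsg.Lie.Sz F (2 ^ (m + 1)), orderOf x = R3 true (3 ^ k)) ∧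
      ∃ x : Cfsg.Lie.Sz F (2 ^ (m + 1)), orderOf x = R4 (3 ^ k) := by
    rcases h.alt with h1 | ⟨h1, -⟩
    · exact h1
    · exact absurd h1 h9
  have hR31 := h.one_lt_R3
  have hR41 := h.one_lt_R4
  have hR3o := R3_odd true hodd
  have hR4o := R4_odd hodd
  have hR4 := two_R4 hodd
  have hodd4 : ∀ n : ℕ, n % 2 = 1 → 1 < n → ¬ n ∣ 4 := by
    intro n h1 h2 h3
    have := Nat.le_of_dvd (by norm_num) h3
    interval_cases n
    all_goals first | omega | (revert h3; decide)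
  -- the tori
  obtain ⟨T3, hT3, hd3⟩ : ∃ n ∈ Cfsg.Agent.H98.SzPartition.torusOrders m, R3 true (3 ^ k) ∣ n := by
    rcases hsp x3 with h1 | h1
    · rw [hx3] at h1
      exact absurd h1 (hodd4 _ hR3o hR31)
    · rwa [hx3] at h1
  obtain ⟨T4, hT4, hd4⟩ : ∃ n ∈ Cfsg.Agent.H98.SzPartition.torusOrders m, R4 (3 ^ k) ∣ n := by
    rcases hsp x4 with h1 | h1
    · rw [hx4] at h1
      exact absurd h1 (hodd4 _ hR4o hR41)
    · rwa [hx4] at h1
  have hN3 : T3 ∣ N3 true (3 ^ k) := by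
    obtain ⟨g, hg⟩ := hex T3 hT3
    obtain ⟨r, hr, hrd⟩ := Nat.exists_prime_and_dvd hR31.ne'
    rw [← hg]
    exact h.absA hr hrd (by rw [hg]; exact hrd.trans hd3)
  have hN4 : T4 ∣ N4 true (3 ^ k) := by
    obtain ⟨g, hg⟩ := hex T4 hT4
    obtain ⟨r, hr, hrd⟩ := Nat.exists_prime_and_dvd hR41.ne'
    rw [← hg]
    exact h.absB hr hrd (by rw [hg]; exact hrd.trans hd4)
  have hne : T3 ≠ T4 := by
    rintro rfl
    exact R4_not_N3 true h3le hodd (hd4.trans hN3)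
  have hdN3 := dd_mul_N3 true h.one_le
  have hdN4 := dd_mul_N4 true h.one_le hodd
  simp only [if_true] at hdN3 hdN4
  have hu8 : 8 ≤ 2 ^ (2 * m + 1) := by
    calc 8 = 2 ^ 3 := by norm_num
      _ ≤ 2 ^ (2 * m + 1) := Nat.pow_le_pow_right (by norm_num) (by omega)
  have hT3o := hoddT _ hT3
  have hT4o := hoddT _ hT4
  rw [hto] at hT3 hT4
  -- the case `q = 3`
  by_cases hk1 : k = 1
  · subst hk1
    obtain ⟨g, hg⟩ := hex (2 ^ (2 * m + 1) - 1) ((hto _).2 (Or.inl rfl))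
    have h3g := spec_three h g
    rw [hg] at h3g
    have e1 : N3 true (3 ^ 1) = 13 := by decide
    have e2 : N4 true (3 ^ 1) = 20 := by decide
    have e3 : R3 true (3 ^ 1) = 13 := by decide
    have e4 : R4 (3 ^ 1) = 5 := by decide
    rw [e1] at hN3
    rw [e2] at hN4
    rw [e3] at hd3
    rw [e4] at hd4
    have hT413 : T3 = 13 := Nat.dvd_antisymm hN3 hd3
    have hT45 : T4 = 5 := by
      have := Nat.le_of_dvd (by norm_num) hN4
      obtain ⟨c, rfl⟩ := hd4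
      have : c ≤ 4 := by omega
      interval_cases c
      all_goals first | omega | rfl | (revert hN4; decide)
    generalize 2 ^ (2 * m + 1) = u at *
    have hu : u = 8 := by
      have h1 : u - s + 1 = 5 := by rcases hT4 with h1 | h1 | h1 <;> omega
      have h2 : u = s + 4 := by omega
      rw [h2] at hss
      have : s ≤ 4 := by nlinarith
      omega
    rw [hu] at h3g
    revert h3g
    decide
  have hk2 : 2 ≤ k := by have := h.hk; omega
  have hq9 : 9 ≤ 3 ^ k := by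
    calc 9 = 3 ^ 2 := rfl
      _ ≤ 3 ^ k := Nat.pow_le_pow_right (by norm_num) hk2
  obtain ⟨a, ha⟩ := hd3
  obtain ⟨b, hb⟩ := hd4
  have hR3 : R3 true (3 ^ k) = (3 ^ k) ^ 2 + 3 ^ k + 1 := rfl
  have ha1 : 1 ≤ a := by
    rcases Nat.eq_zero_or_pos a with h0 | h0
    · rw [h0, mul_zero] at ha; omega
    · exact h0
  -- `a d ∣ q - 1`
  have had : a * dd true (3 ^ k) ∣ 3 ^ k - 1 := by
    rw [ha] at hN3
    obtain ⟨c, hc⟩ := hN3
    refine ⟨c, ?_⟩
    have h1 : (3 ^ k) ^ 3 - 1 = (3 ^ k - 1) * R3 true (3 ^ k) := by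
      rw [hR3]
      obtain ⟨t, ht⟩ : ∃ t, 3 ^ k = t + 1 := ⟨3 ^ k - 1, by omega⟩
      rw [ht, Nat.add_sub_cancel]
      apply Nat.sub_eq_of_eq_add
      ring
    rw [hc, h1] at hdN3
    apply Nat.eq_of_mul_eq_mul_right (by omega : 0 < R3 true (3 ^ k))
    rw [← hdN3]
    ring
  have hbd : b * dd true (3 ^ k) ∣ 2 * (3 ^ k + 1) := by
    rw [hb] at hN4
    obtain ⟨c, hc⟩ := hN4
    refine ⟨c, ?_⟩
    rw [hc, ← hR4] at hdN4
    apply Nat.eq_of_mul_eq_mul_right (by omega : 0 < R4 (3 ^ k))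
    have : 2 * (3 ^ k + 1) * R4 (3 ^ k) = 2 * R4 (3 ^ k) * (3 ^ k + 1) := by ring
    rw [this, ← hdN4]
    ring
  have hbo : b % 2 = 1 := by
    rcases Nat.mod_two_eq_zero_or_one b with h0 | h0
    · rw [hb, Nat.mul_mod, h0, mul_zero] at hT4o
      omega
    · exact h0
  have hadle := Nat.le_of_dvd (by omega) had
  have hd2 := two_le_dd true hodd
  have ha2 : 2 * a ≤ 3 ^ k - 1 := by
    calc 2 * a ≤ dd true (3 ^ k) * a := Nat.mul_le_mul_right _ hd2
      _ = a * dd true (3 ^ k) := mul_comm _ _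
      _ ≤ _ := hadle
  rcases pow_three_mod (k := k) with ⟨hke, hq8⟩ | ⟨hko, hq8, hq5⟩
  · -- `k` even
    have hd : dd true (3 ^ k) = 4 := by
      show Nat.gcd 4 (3 ^ k - 1) = 4
      apply Nat.gcd_eq_left
      omega
    rw [hd] at hadle
    -- `R3 = 3 (mod 4)`
    have hR34 : R3 true (3 ^ k) % 4 = 3 := by
      rw [hR3, Nat.add_mod, Nat.add_mod ((3 ^ k) ^ 2), Nat.pow_mod]
      have : 3 ^ k % 4 = 1 := by omega
      rw [this]
    have hT3' : T3 = 2 ^ (2 * m + 1) - 1 := by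
      rcases hT3 with h1 | h1 | h1
      · exact h1
      · exfalso
        have hd3 : R3 true (3 ^ k) ∣ T3 := ⟨a, ha⟩
        rw [h1] at hd3
        apply not_dvd_sq_add_one hR34 (u := 2 ^ (2 * m + 1))
        rw [hfac]
        exact hd3.mul_right _
      · exfalso
        have hd3 : R3 true (3 ^ k) ∣ T3 := ⟨a, ha⟩
        rw [h1] at hd3
        apply not_dvd_sq_add_one hR34 (u := 2 ^ (2 * m + 1))
        rw [hfac]
        exact hd3.mul_left _
    have hT4' : T4 = 2 ^ (2 * m + 1) + s + 1 ∨ T4 = 2 ^ (2 * m + 1) - s + 1 := by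
      rcases hT4 with h1 | h1 | h1
      · exact absurd (hT3'.trans h1.symm) hne
      · exact Or.inl h1
      · exact Or.inr h1
    exact fin_two hq9 hss hs4 hsQ hu8 ha1 (by rw [← hT3', ha, hR3]; ring) (b := b) (T4 := T4) hT4'
      (by rw [hb, ← hR4]; ring) ha2 (fun _ => by omega)
  · -- `k` odd
    have hd : dd true (3 ^ k) = 2 := by
      show Nat.gcd 4 (3 ^ k - 1) = 2
      have h1 : (3 ^ k - 1) % 4 = 2 := by omega
      rw [Nat.gcd_rec, h1]
      decide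
    rw [hd] at hbd
    have hb4 : 4 * b ≤ 3 ^ k + 1 := by
      have h1 : b ∣ 3 ^ k + 1 := Nat.dvd_of_mul_dvd_mul_left (by norm_num : 0 < 2) (by rwa [mul_comm 2 b])
      obtain ⟨c, hc⟩ : 4 ∣ 3 ^ k + 1 := by omega
      rw [hc] at h1 ⊢
      have hcop : Nat.Coprime b 4 := by
        have : Nat.Coprime b 2 := by
          rw [Nat.coprime_two_right, Nat.odd_iff]
          exact hbo
        exact (show (4 : ℕ) = 2 ^ 2 by norm_num) ▸ Nat.Coprime.pow_right 2 this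
      have h2 := hcop.dvd_of_dvd_mul_left h1
      exact Nat.mul_le_mul_left _ (Nat.le_of_dvd (by omega) h2)
    have hq27 : 27 ≤ 3 ^ k := by
      calc 27 = 3 ^ 3 := rfl
        _ ≤ 3 ^ k := Nat.pow_le_pow_right (by norm_num) (by omega)
    have hT4' : T4 = 2 ^ (2 * m + 1) + s + 1 ∨ T4 = 2 ^ (2 * m + 1) - s + 1 := by
      rcases hT4 with h1 | h1 | h1
      · exfalso
        have h5 : 5 ∣ 2 * R4 (3 ^ k) := by rw [hR4]; exact Nat.dvd_of_mod_eq_zero hq5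
        have h5' : 5 ∣ 2 * T4 := h5.trans (Nat.mul_dvd_mul_left 2 ⟨b, hb⟩)
        omega
      · exact Or.inl h1
      · exact Or.inr h1
    rcases hT3 with h1 | h1
    · exact fin_two hq9 hss hs4 hsQ hu8 ha1 (by rw [← h1, ha, hR3]; ring) (b := b) (T4 := T4) hT4'
        (by rw [hb, ← hR4]; ring) ha2 (fun _ => by omega)
    · have hss' : (s : ℤ) ^ 2 = 2 * ((2 ^ (2 * m + 1) : ℕ) : ℤ) := by
        rw [sq]; exact_mod_cast hss
      have e3 : (T3 : ℤ) = a * (((3 ^ k : ℕ) : ℤ) ^ 2 + ((3 ^ k : ℕ) : ℤ) + 1) := by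
        rw [ha, hR3]; push_cast; ring
      have e4 : 2 * (T4 : ℤ) = b * (((3 ^ k : ℕ) : ℤ) ^ 2 + 1) := by
        have : 2 * T4 = b * ((3 ^ k) ^ 2 + 1) := by rw [hb, ← hR4]; ring
        exact_mod_cast this
      rcases h1 with h1 | h1
      · rcases hT4' with h2 | h2
        · exact absurd (h1.trans h2.symm) hne
        · refine core_one (q := ((3 ^ k : ℕ) : ℤ)) (u := ((2 ^ (2 * m + 1) : ℕ) : ℤ)) (s := s) (a := a) (b := b)
            (t := 1) (by exact_mod_cast hq27) hss' (by exact_mod_cast hs4) (by exact_mod_cast ha1) (Or.inl rfl)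
            ?_ ?_ (by omega) (fun _ => by omega) (by omega)
          · rw [← e3, h1]; push_cast; ring
          · rw [← e4, h2, Nat.cast_add, Nat.cast_sub hsQ]; push_cast; ring
      · rcases hT4' with h2 | h2
        · refine core_one (q := ((3 ^ k : ℕ) : ℤ)) (u := ((2 ^ (2 * m + 1) : ℕ) : ℤ)) (s := s) (a := a) (b := b)
            (t := -1) (by exact_mod_cast hq27) hss' (by exact_mod_cast hs4) (by exact_mod_cast ha1) (Or.inr rfl)
            ?_ ?_ (by omega) (fun _ => by omega) (by omega)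
          · rw [← e3, h1, Nat.cast_add, Nat.cast_sub hsQ]; push_cast; ring
          · rw [← e4, h2]; push_cast; ring
        · exact absurd (h1.trans h2.symm) hne

end Cfsg.Agent.H868.Rec
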