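import Cfsg.Agent.H513.MeetPSp

/-!
# The `PSp` row of the Sylow intersections for all odd primes (helper868, task 1171 of helper903)

`H513.MeetPSp.meet_PSp` with `3 ≤ p` instead of `5 ≤ p`.
-/

set_option autoImplicit false

namespace Cfsg.Agent.H868.MeetOddPSp

open Cfsg.Agent.H903.SylMeet Cfsg.Agent.H903.SylSemi
open Cfsg.Agent.ClassicalGeometry.SympAutSemi Cfsg.Agent.ClassicalGeometry.SympGamma
open Cfsg.Agent.ClassicalGeometry
open Cfsg.Agent.H513.MeetPSp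

theorem meet_PSp {p m : ℕ} [Fact p.Prime] (hp : 3 ≤ p) {F : Type} [Field F] [Fintype F] (hm : 2 ≤ m)
    (h2 : m = 2 → 3 ≤ Fintype.card F) (h : Cfsg.Agent.H903.SylSemi.SepSp p F m) :
    Cfsg.Agent.H903.SylMeet.Meet p (Cfsg.PSp m F) := by
  intro P hP
  have hfin : Finite (Cfsg.PSp m F) := by
    unfold Cfsg.PSp
    infer_instance
  have hπ : Function.Surjective (QuotientGroup.mk' (Subgroup.center (Matrix.symplecticGroup (Fin m) F))) :=
    QuotientGroup.mk'_surjective _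
  refine good_of_sep (T := Cfsg.PSp m F) (F := F) (V := Fin m ⊕ Fin m → F)
    (π := QuotientGroup.mk' (Subgroup.center (Matrix.symplecticGroup (Fin m) F))) hπ
    (ρ := rho m F) rho_injective (Y := SemiSp F m) ?_ ?_ ?_ ?_ ?_ ?_ hP ?_ ?_ (X' := IsSpMap F m) ?_ h
  · rw [semiSp_iff]; exact one_mem _
  · intro y y' hy hy'
    rw [semiSp_iff] at hy hy' ⊢
    exact mul_mem hy hy'
  · intro a
    rw [semiSp_iff]
    exact ⟨_, _, mul_ne_zero a.ne_zero a.ne_zero, isSemi_scal (m := m) a⟩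
  · rintro y ⟨θ, τ, -, hθ, -⟩
    exact ⟨θ, hθ⟩
  · intro s
    exact ⟨(isSemi_rho s).1, (isSemi_rho s).2.1⟩
  · intro s
    rw [semiSp_iff]
    exact ⟨_, _, one_ne_zero, isSemi_rho s⟩
  · intro β hβ
    obtain ⟨k, hk⟩ := hP ⟨β, hβ⟩
    have hk' : β ^ p ^ k = 1 := congrArg Subtype.val hk
    have hodd : Odd (p ^ k) := Odd.pow ((Fact.out : p.Prime).odd_of_ne_two (by omega))
    obtain ⟨g, rfl⟩ := mem_range hm h2 β hodd hk'
    exact ⟨g, (semiSp_iff _).2 g.2, ind_Psi g⟩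
  · intro y hy hind
    have hy' := (semiSp_iff y).1 hy
    have h1 : Psi m F ⟨y, hy'⟩ = 1 := Ind.unique hπ rho_injective (ind_Psi ⟨y, hy'⟩) hind
    obtain ⟨a, ha⟩ := exists_scal_of_Psi_eq_one (by omega) _ h1
    refine ⟨a, ?_⟩
    ext1 v
    exact DFunLike.congr_fun ha v
  · rintro g ⟨⟨h1, h2⟩, h3⟩
    exact exists_rho_eq g h1 h2 h3

end Cfsg.Agent.H868.MeetOddPSp
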