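import Cfsg.Agent.H177.MeetPSU

/-!
# The `PSU` row of the Sylow intersections for all odd primes (helper868, task 1171 of helper903)

`H177.MeetPSU.meet_PSU` with `3 ≤ p` instead of `5 ≤ p`.
-/

set_option autoImplicit false

namespace Cfsg.Agent.H868.MeetOddPSU

open Cfsg Cfsg.Agent.LieClassical.HermBasic Cfsg.Agent.LieClassical.HermSiegel
  Cfsg.Agent.LieClassical.HermGen Cfsg.Agent.LieClassical.SUBasic
  Cfsg.Agent.ClassicalGeometry.UnitAutBasic Cfsg.Agent.LieClassical.FieldTransfer Matrix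
  Cfsg.Agent.ClassicalGeometry.PSUAutCount
open Cfsg.Agent.H903.SylMeet Cfsg.Agent.H903.SylSemi
open Cfsg.Agent.H177.MeetPSU

/-- **The row `PSU` from the geometric statement, all odd primes.** -/
theorem meet_PSU {p n q : ℕ} [Fact p.Prime] (_hp : 3 ≤ p) {F : Type} [Field F] [Fintype F]
    (hF : Fintype.card F = q ^ 2) (hn : 3 ≤ n) (h2 : ¬ (n = 3 ∧ q = 2))
    (h : Cfsg.Agent.H903.SylSemi.SepSU p F n q) : Cfsg.Agent.H903.SylMeet.Meet p (Cfsg.PSU n F q) := by
  intro P hP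
  refine good_of_sep (π := pr n F q) pr_surjective (ρ := rho n F q) rho_injective (Y := SemiU F n q)
    ?_ (fun _ _ => semiU_mul) semiU_scal ?_ semi_rho semiU_rho hP ?_ (fun y => uniq hF hn) (fun g => exists_su) h
  · have h1 := semiU_rho (1 : SU n F q)
    rwa [map_one] at h1
  · rintro y ⟨θ, τ, -, h1, -⟩
    exact ⟨θ, h1⟩
  · intro β _
    obtain ⟨A, θ, rfl⟩ := ClassicalGeometry.PSUAutMain.exists_toAut hF hn h2 β
    exact ⟨yy A θ, semiU_yy A θ, ind_yy A θ⟩

end Cfsg.Agent.H868.MeetOddPSU
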