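import Mathlib
import Cfsg.Agent.OddHalf.E2.Sep

/-!
# Quadratic maps between elementary abelian 2-groups with constant fibres (helper868, for S3924)

`M`, `V` finite elementary abelian 2-groups (written multiplicatively), `q : M → V` a quadratic map with
`q m = 1 ↔ m = 1` such that all the fibres over the elements `v ≠ 1` have the same size. Then either `q` is
injective, or `|M| = |V|²` and `|ker B(x, ·)| = |V|` for every `x ≠ 1` (`B` the polar form).
-/

set_option autoImplicit false

namespace Cfsg.Agent.H868.Quad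

open Subgroup Finset

variable {M V : Type*} [CommGroup M] [CommGroup V]

/-- the polar form of `q` -/
def B (q : M → V) (x y : M) : V := q (x * y) * (q x * q y)

/-- an anisotropic quadratic map between elementary abelian 2-groups -/
structure QM (q : M → V) : Prop where
  two : ∀ m : M, m * m = 1
  twoV : ∀ v : V, v * v = 1
  q_one : q 1 = 1
  one : ∀ m, q m = 1 → m = 1
  bil : ∀ x y z, B q (x * y) z = B q x z * B q y z

theorem B_comm (q : M → V) (x y : M) : B q x y = B q y x := by
  unfold B; rw [mul_comm x y, mul_comm (q x)]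

namespace QM

variable {q : M → V} (h : QM q)
include h

theorem bil' (x y z : M) : B q x (y * z) = B q x y * B q x z := by
  rw [B_comm, h.bil, B_comm q y, B_comm q z]

/-- `B x` as a homomorphism -/
def beta (x : M) : M →* V where
  toFun := B q x
  map_one' := by
    have h1 := h.bil' x 1 1
    rw [mul_one] at h1
    exact left_eq_mul.1 h1
  map_mul' := h.bil' x

theorem beta_apply (x y : M) : h.beta x y = B q x y := rfl

theorem B_self (x : M) : B q x x = 1 := by
  unfold B; rw [h.two, h.q_one, h.twoV, one_mul]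

theorem q_mul (x y : M) : q (x * y) = q x * q y * B q x y := by
  unfold B
  have h1 := h.twoV (q x * q y)
  calc q (x * y) = q (x * y) * ((q x * q y) * (q x * q y)) := by rw [h1, mul_one]
    _ = q x * q y * (q (x * y) * (q x * q y)) := by
        rw [← mul_assoc, mul_comm]

/-- the radical of `χ ∘ B` -/
def Z (χ : V →* ℤˣ) : Subgroup M where
  carrier := {m | ∀ x, χ (B q x m) = 1}
  one_mem' := fun x => by rw [show B q x 1 = 1 from (h.beta x).map_one, map_one]
  mul_mem' := by
    intro a b ha hb x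
    rw [h.bil', map_mul, ha x, hb x, one_mul]
  inv_mem' := by
    intro a ha x
    rw [show B q x a⁻¹ = (B q x a)⁻¹ from (h.beta x).map_inv a, map_inv, ha x, inv_one]

theorem mem_Z {χ : V →* ℤˣ} {m : M} : m ∈ h.Z χ ↔ ∀ x, χ (B q x m) = 1 := Iff.rfl

/-- `χ ∘ q` on the radical -/
def psi (χ : V →* ℤˣ) : h.Z χ →* ℤ where
  toFun m := (χ (q m) : ℤ)
  map_one' := by rw [OneMemClass.coe_one, h.q_one, map_one, Units.val_one]
  map_mul' := by
    intro a b
    rw [Subgroup.coe_mul, h.q_mul, map_mul, map_mul, b.2 a, mul_one, Units.val_mul]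

theorem sum_Z [Finite M] (χ : V →* ℤˣ) [Fintype M] [DecidablePred (· ∈ h.Z χ)] :
    (∑ m : M, if m ∈ h.Z χ then (χ (q m) : ℤ) else 0) = 0 ∨
      (∑ m : M, if m ∈ h.Z χ then (χ (q m) : ℤ) else 0) = Nat.card (h.Z χ) := by
  classical
  have h1 : (∑ m : M, if m ∈ h.Z χ then (χ (q m) : ℤ) else 0) = ∑ z : h.Z χ, h.psi χ z := by
    rw [← Finset.sum_filter, Finset.sum_subtype (p := (· ∈ h.Z χ))]
    · rfl
    · intro x; simp
  rw [h1, sum_hom_units, Nat.card_eq_fintype_card]
  split_ifs
  · exact Or.inr rfl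
  · exact Or.inl (by simp)

theorem sum_sq [Fintype M] (χ : V →* ℤˣ) [DecidablePred (· ∈ h.Z χ)] :
    (∑ m : M, (χ (q m) : ℤ)) ^ 2 =
      Nat.card M * ∑ m : M, if m ∈ h.Z χ then (χ (q m) : ℤ) else 0 := by
  classical
  set a : M → ℤ := fun m => (χ (q m) : ℤ) with ha
  have h1 : ∀ m k : M, a m * a (m * k) = a k * (χ (B q k m) : ℤ) := by
    intro m k
    have h2 : χ (q m) * χ (q (m * k)) = χ (q k) * χ (B q k m) := by
      rw [← map_mul, ← map_mul, h.q_mul, ← mul_assoc, ← mul_assoc, h.twoV, one_mul, B_comm]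
    have h3 := congrArg (Units.val) h2
    rw [Units.val_mul, Units.val_mul] at h3
    exact h3
  have h2 : ∀ k : M, ∑ m : M, (χ (B q k m) : ℤ) = if k ∈ h.Z χ then (Nat.card M : ℤ) else 0 := by
    intro k
    have h3 := sum_hom_units ((Units.coeHom ℤ).comp (χ.comp (h.beta k)))
    have h4 : ∑ m : M, (χ (B q k m) : ℤ) = ∑ m : M, ((Units.coeHom ℤ).comp (χ.comp (h.beta k))) m := rfl
    rw [h4, h3]
    have h5 : ((Units.coeHom ℤ).comp (χ.comp (h.beta k)) = 1) ↔ k ∈ h.Z χ := by
      rw [h.mem_Z, MonoidHom.ext_iff]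
      refine forall_congr' fun x => ?_
      change ((χ (B q k x) : ℤ) = 1) ↔ _
      rw [Units.val_eq_one, B_comm]
    by_cases h6 : k ∈ h.Z χ
    · rw [if_pos (h5.2 h6), if_pos h6, Nat.card_eq_fintype_card]
    · rw [if_neg (fun h7 => h6 (h5.1 h7)), if_neg h6, Nat.cast_zero]
  calc (∑ m : M, a m) ^ 2 = ∑ m : M, ∑ k : M, a m * a k := by rw [sq, Finset.sum_mul_sum]
    _ = ∑ m : M, ∑ k : M, a m * a (m * k) := by
        refine Finset.sum_congr rfl fun m _ => ?_
        exact (Equiv.sum_comp (Equiv.mulLeft m) (fun k => a m * a k)).symm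
    _ = ∑ m : M, ∑ k : M, a k * (χ (B q k m) : ℤ) := by
        refine Finset.sum_congr rfl fun m _ => Finset.sum_congr rfl fun k _ => h1 m k
    _ = ∑ k : M, a k * ∑ m : M, (χ (B q k m) : ℤ) := by
        rw [Finset.sum_comm]
        refine Finset.sum_congr rfl fun k _ => ?_
        rw [Finset.mul_sum]
    _ = _ := by
        rw [Finset.mul_sum]
        refine Finset.sum_congr rfl fun k _ => ?_
        rw [h2 k]
        split_ifs
        · rw [mul_comm]
        · rw [mul_zero, mul_zero]

end QM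

theorem arith {r s j N : ℕ} (hr : 1 ≤ r) (hN : 2 ≤ N) (h1 : 2 ^ s + N = 1 + N * 2 ^ r)
    (h2 : (N - 1) ^ 2 = 2 ^ s * 2 ^ j) : s = 2 * r ∧ j = 0 := by
  obtain ⟨n, rfl⟩ : ∃ n, N = n + 1 := ⟨N - 1, by omega⟩
  rw [Nat.add_sub_cancel, ← pow_add] at h2
  obtain ⟨k, hk, rfl⟩ := (Nat.dvd_prime_pow Nat.prime_two).1 (h2 ▸ dvd_pow_self n (two_ne_zero))
  rw [← pow_mul] at h2
  have h3 := Nat.pow_right_injective (le_refl 2) h2
  have h4 : 2 ^ s + 2 ^ k = 2 ^ (k + r) + 2 ^ r := by
    rw [pow_add]; linarith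
  rcases lt_trichotomy k r with h | h | h
  · exfalso
    rcases Nat.lt_or_ge k s with h5 | h5
    · have e1 : 2 ^ (k + 1) ∣ 2 ^ s := pow_dvd_pow 2 h5
      have e2 : 2 ^ (k + 1) ∣ 2 ^ (k + r) := pow_dvd_pow 2 (by omega)
      have e3 : 2 ^ (k + 1) ∣ 2 ^ r := pow_dvd_pow 2 h
      have e4 : 2 ^ (k + 1) ∣ 2 ^ k := by
        rw [← Nat.dvd_add_right e1, h4]
        exact dvd_add e2 e3
      have := (Nat.pow_dvd_pow_iff_le_right (by norm_num)).1 e4
      omega
    · have e1 : 2 ^ s ≤ 2 ^ k := Nat.pow_le_pow_right (by norm_num) h5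
      have e2 : 2 ^ (k + 1) ≤ 2 ^ r := Nat.pow_le_pow_right (by norm_num) h
      have e3 : 0 < 2 ^ (k + r) := by positivity
      rw [pow_succ] at e2
      omega
  · subst h
    have h5 : 2 ^ s = 2 ^ (k + k) := by omega
    have h6 := Nat.pow_right_injective (le_refl 2) h5
    change s = k + k at h6
    change k * 2 = s + j at h3
    omega
  · exfalso
    rcases Nat.lt_or_ge r s with h5 | h5
    · have e1 : 2 ^ (r + 1) ∣ 2 ^ s := pow_dvd_pow 2 h5
      have e2 : 2 ^ (r + 1) ∣ 2 ^ (k + r) := pow_dvd_pow 2 (by omega)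
      have e3 : 2 ^ (r + 1) ∣ 2 ^ k := pow_dvd_pow 2 h
      have e4 : 2 ^ (r + 1) ∣ 2 ^ r := by
        rw [← Nat.dvd_add_right e2, ← h4]
        exact dvd_add e1 e3
      have := (Nat.pow_dvd_pow_iff_le_right (by norm_num)).1 e4
      omega
    · have e1 : 2 ^ s ≤ 2 ^ r := Nat.pow_le_pow_right (by norm_num) h5
      have e2 : 2 ^ (k + 1) ≤ 2 ^ (k + r) := Nat.pow_le_pow_right (by norm_num) (by omega)
      have e3 : 0 < 2 ^ k := by positivity
      rw [pow_succ] at e2
      omega

namespace QM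

variable {q : M → V} (h : QM q)
include h

theorem sum_fib [Fintype M] [Fintype V] [DecidableEq V] {N : ℕ}
    (hN : ∀ v : V, v ≠ 1 → (univ.filter fun m => q m = v).card = N) (f : V → ℤ) :
    ∑ m : M, f (q m) = f 1 + N * (∑ v : V, f v - f 1) := by
  classical
  have h1 : ∑ m : M, f (q m) = ∑ v : V, ((univ.filter fun m => q m = v).card : ℤ) * f v := by
    rw [← Finset.sum_fiberwise' (univ : Finset M) q f]
    refine Finset.sum_congr rfl fun v _ => ?_
    rw [Finset.sum_const, nsmul_eq_mul]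
  have h2 : (univ.filter fun m => q m = 1) = {1} := by
    ext m
    simp only [mem_filter, mem_univ, true_and, mem_singleton]
    exact ⟨h.one m, fun e => e ▸ h.q_one⟩
  rw [h1, ← Finset.add_sum_erase _ _ (mem_univ (1 : V)), h2, card_singleton, Nat.cast_one, one_mul]
  congr 1
  rw [← Finset.sum_erase_eq_sub (mem_univ (1 : V)), Finset.mul_sum]
  refine Finset.sum_congr rfl fun v hv => ?_
  rw [hN v (Finset.ne_of_mem_erase hv)]

/-- The dichotomy: `q` is injective or `|M| = |V|²` and the radicals are trivial. -/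
theorem dichotomy [Finite M] [Finite V]
    (hN : ∀ v w : V, v ≠ 1 → w ≠ 1 → Nat.card {m // q m = v} = Nat.card {m // q m = w}) :
    Function.Injective q ∨ (Nat.card M = Nat.card V ^ 2 ∧ ∀ χ : V →* ℤˣ, χ ≠ 1 → h.Z χ = ⊥) := by
  classical
  cases nonempty_fintype M
  cases nonempty_fintype V
  by_cases hM : Subsingleton M
  · exact Or.inl (Function.injective_of_subsingleton q)
  rw [not_subsingleton_iff_nontrivial] at hM
  obtain ⟨m0, hm0⟩ := exists_ne (1 : M)
  have hv0 : q m0 ≠ 1 := fun e => hm0 (h.one _ e)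
  set v0 := q m0 with hv0'
  set N := (univ.filter fun m => q m = v0).card with hNdef
  have hN' : ∀ v : V, v ≠ 1 → (univ.filter fun m => q m = v).card = N := by
    intro v hv
    have h1 := hN v v0 hv hv0
    rw [Nat.card_eq_fintype_card, Nat.card_eq_fintype_card, Fintype.card_subtype, Fintype.card_subtype] at h1
    exact h1
  have hNpos : 0 < N := by
    apply Finset.card_pos.2
    exact ⟨m0, by simp [hv0']⟩
  rcases Nat.lt_or_ge 1 N with hN2 | hN1
  · right
    -- `V` and `M` are 2-groups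
    have pV : IsPGroup 2 V := fun v => ⟨1, by rw [pow_one, sq, h.twoV]⟩
    have pM : IsPGroup 2 M := fun m => ⟨1, by rw [pow_one, sq, h.two]⟩
    have : Fact (Nat.Prime 2) := ⟨Nat.prime_two⟩
    obtain ⟨r, hr⟩ := IsPGroup.iff_card.1 pV
    obtain ⟨s, hs⟩ := IsPGroup.iff_card.1 pM
    have hr1 : 1 ≤ r := by
      by_contra hr0
      have hr0' : r = 0 := by omega
      rw [hr0', pow_zero, Nat.card_eq_one_iff_unique] at hr
      exact hv0 (hr.1.elim _ _)
    have hcard : 2 ^ s + N = 1 + N * 2 ^ r := by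
      have h1 := h.sum_fib hN' (fun _ => 1)
      simp only [Finset.sum_const, Finset.card_univ, nsmul_eq_mul, mul_one] at h1
      rw [← Nat.card_eq_fintype_card, ← Nat.card_eq_fintype_card, hr, hs] at h1
      push_cast at h1
      have h2 : ((2 ^ s + N : ℕ) : ℤ) = ((1 + N * 2 ^ r : ℕ) : ℤ) := by
        push_cast
        linarith
      exact_mod_cast h2
    have main : ∀ χ : V →* ℤˣ, χ ≠ 1 → s = 2 * r ∧ h.Z χ = ⊥ := by
      intro χ hχ
      obtain ⟨j, hj⟩ := IsPGroup.iff_card.1 (pM.to_subgroup (h.Z χ))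
      have hS : (∑ m : M, (χ (q m) : ℤ)) = 1 - N := by
        have h1 := h.sum_fib hN' (fun v => (χ v : ℤ))
        have h2 : ∑ v : V, (χ v : ℤ) = 0 := by
          have h3 := sum_hom_units ((Units.coeHom ℤ).comp χ)
          rw [if_neg] at h3
          · exact_mod_cast h3
          · intro h4
            apply hχ
            ext v
            have := DFunLike.congr_fun h4 v
            exact this
        rw [h2] at h1
        rw [h1, map_one, Units.val_one]
        ring
      have hsq := h.sum_sq χ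
      rw [hS] at hsq
      have hne : ((1 : ℤ) - N) ^ 2 ≠ 0 := by
        have : (1 : ℤ) - N ≠ 0 := by
          intro h5
          have : (N : ℤ) = 1 := by linarith
          have : N = 1 := by exact_mod_cast this
          omega
        exact pow_ne_zero 2 this
      rcases h.sum_Z χ with h5 | h5
      · rw [h5, mul_zero] at hsq
        exact absurd hsq hne
      · rw [h5, hs, hj] at hsq
        have h6 : (N - 1) ^ 2 = 2 ^ s * 2 ^ j := by
          have h7 : (((N - 1 : ℕ) : ℤ)) = (N : ℤ) - 1 := by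
            rw [Nat.cast_sub hN2.le, Nat.cast_one]
          have h8 : (((N - 1) ^ 2 : ℕ) : ℤ) = ((2 ^ s * 2 ^ j : ℕ) : ℤ) := by
            rw [Nat.cast_pow, h7]
            push_cast at hsq ⊢
            rw [← hsq]
            ring
          exact_mod_cast h8
        obtain ⟨h9, h10⟩ := arith hr1 hN2 hcard h6
        refine ⟨h9, ?_⟩
        rw [h10, pow_zero] at hj
        exact Subgroup.card_eq_one.1 hj
    refine ⟨?_, fun χ hχ => (main χ hχ).2⟩
    obtain ⟨χ, -, hχ⟩ := Cfsg.Agent.OddHalf.E2.exists_sep h.twoV (⊥ : Subgroup V) (c := v0)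
      (by rw [mem_bot]; exact hv0)
    have hχ1 : χ ≠ 1 := by
      rintro rfl
      rw [MonoidHom.one_apply] at hχ
      exact absurd hχ (by decide)
    rw [hs, hr, (main χ hχ1).1, ← pow_mul, mul_comm]
  · left
    have hN1' : N = 1 := by omega
    intro a b hab
    by_cases ha : q a = 1
    · rw [h.one a ha, h.one b (hab ▸ ha)]
    · have h1 := hN' (q a) ha
      rw [hN1', Finset.card_eq_one] at h1
      obtain ⟨c, hc⟩ := h1
      have h2 : a ∈ (univ.filter fun m => q m = q a) := by simp
      have h3 : b ∈ (univ.filter fun m => q m = q a) := by simp [hab]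
      rw [hc, mem_singleton] at h2 h3
      rw [h2, h3]

/-- In the second case the kernels of the maps `B(x, ·)` have order `|V|`. -/
theorem card_ker [Finite M] [Finite V] (hc : Nat.card M = Nat.card V ^ 2)
    (hZ : ∀ χ : V →* ℤˣ, χ ≠ 1 → h.Z χ = ⊥) {x : M} (hx : x ≠ 1) : Nat.card (h.beta x).ker = Nat.card V := by
  have hs : (h.beta x).range = ⊤ := by
    by_contra hr
    have h1 : ∃ c : V, c ∉ (h.beta x).range := by
      by_contra h2
      push Not at h2
      exact hr (eq_top_iff.2 fun c _ => h2 c)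
    obtain ⟨c, hc⟩ := h1
    obtain ⟨χ, hχ, hχc⟩ := Cfsg.Agent.OddHalf.E2.exists_sep h.twoV (h.beta x).range hc
    have hχ1 : χ ≠ 1 := by
      rintro rfl
      rw [MonoidHom.one_apply] at hχc
      exact absurd hχc (by decide)
    have h3 : x ∈ h.Z χ := fun y => by
      rw [B_comm]
      exact hχ _ ⟨y, rfl⟩
    rw [hZ χ hχ1, mem_bot] at h3
    exact hx h3
  have h1 := (h.beta x).ker.card_mul_index
  rw [Subgroup.index_ker, hs, Subgroup.card_top, hc, sq] at h1
  exact Nat.eq_of_mul_eq_mul_right Nat.card_pos h1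

end QM

end Cfsg.Agent.H868.Quad
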