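import Mathlib
import Cfsg.Agent.H868.QuadCount
import Cfsg.Agent.Characters.CNFocal
import Cfsg.Agent.S0205

/-!
# Perfect groups preserving a quadratic map with all kernels of order `|V|`, `|M| = |V|²` (helper868, for S3924)
-/

set_option autoImplicit false

namespace Cfsg.Agent.H868.Quad

open Subgroup

variable {M V : Type*} [CommGroup M] [CommGroup V]

/-- fixed points of an automorphism -/
def C (g : MulAut M) : Subgroup M where
  carrier := {m | g m = m}
  one_mem' := map_one g
  mul_mem' := by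
    intro a b (ha : g a = a) (hb : g b = b)
    change g (a * b) = a * b
    rw [map_mul, ha, hb]
  inv_mem' := by
    intro a (ha : g a = a)
    change g a⁻¹ = a⁻¹
    rw [map_inv, ha]

theorem mem_C {g : MulAut M} {m : M} : m ∈ C g ↔ g m = m := Iff.rfl

/-- `m ↦ m * g m` -/
def delta (g : MulAut M) : M →* M := MonoidHom.id M * g.toMonoidHom

theorem delta_apply (g : MulAut M) (m : M) : delta g m = m * g m := rfl

theorem eq_of_mul_eq_one' (h2 : ∀ m : M, m * m = 1) {a b : M} (h : a * b = 1) : b = a := by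
  have h3 : a * b = a * a := by rw [h, h2]
  exact mul_left_cancel h3

theorem ker_delta (h2 : ∀ m : M, m * m = 1) (g : MulAut M) : (delta g).ker = C g := by
  ext m
  rw [MonoidHom.mem_ker, delta_apply, mem_C]
  constructor
  · intro h
    exact eq_of_mul_eq_one' h2 h
  · intro h
    rw [h, h2]

theorem card_C_mul [Finite M] (h2 : ∀ m : M, m * m = 1) (g : MulAut M) :
    Nat.card (C g) * Nat.card (delta g).range = Nat.card M := by
  rw [← ker_delta h2, ← Subgroup.index_ker]
  exact (delta g).ker.card_mul_index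

/-- A perfect solvable subgroup is trivial. -/
theorem bot_of_perfect {G : Type*} [Group G] (H : Subgroup G) (hs : Group.IsSolvable H) (h : ⁅H, H⁆ = H) :
    H = ⊥ := by
  by_contra hne
  have hnt : Nontrivial H := (Subgroup.nontrivial_iff_ne_bot H).2 hne
  have h1 := Group.IsSolvable.commutator_lt_top_of_nontrivial H
  have h2 : (commutator H).map H.subtype = (⊤ : Subgroup H).map H.subtype := by
    rw [Subgroup.map_subtype_commutator, h, ← MonoidHom.range_eq_map, Subgroup.range_subtype]
  exact h1.ne (Subgroup.map_injective H.subtype_injective h2)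

namespace QM

variable {q : M → V} (h : QM q)

theorem B_map {g : MulAut M} (hg : ∀ m, q (g m) = q m) (x y : M) : B q (g x) (g y) = B q x y := by
  unfold B
  rw [← map_mul, hg, hg, hg]

include h

theorem B_C_range {g : MulAut M} (hg : ∀ m, q (g m) = q m) {c d : M} (hc : c ∈ C g) (hd : d ∈ (delta g).range) :
    B q c d = 1 := by
  obtain ⟨m, rfl⟩ := hd
  rw [delta_apply, h.bil']
  have h1 : B q c (g m) = B q c m := by
    have h2 := B_map hg c m
    rwa [mem_C.1 hc] at h2
  rw [h1, h.twoV]

theorem C_le {g : MulAut M} (hg : ∀ m, q (g m) = q m) {d : M} (hd : d ∈ (delta g).range) :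
    C g ≤ (h.beta d).ker := by
  intro c hc
  rw [MonoidHom.mem_ker, h.beta_apply, B_comm]
  exact h.B_C_range hg hc hd

theorem range_le {g : MulAut M} (hg : ∀ m, q (g m) = q m) {c : M} (hc : c ∈ C g) :
    (delta g).range ≤ (h.beta c).ker := by
  intro d hd
  rw [MonoidHom.mem_ker, h.beta_apply]
  exact h.B_C_range hg hc hd

theorem self_mem_ker (x : M) : x ∈ (h.beta x).ker := by
  rw [MonoidHom.mem_ker, h.beta_apply, h.B_self]

omit [CommGroup V] h in
theorem card_lt {A K : Subgroup M} [Finite M] (hAK : A ≤ K) {x : M} (hx : x ∈ K) (hxA : x ∉ A) :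
    Nat.card A < Nat.card K := by
  by_contra hlt
  exact hxA ((Subgroup.eq_of_le_of_card_ge hAK (not_lt.1 hlt)) ▸ hx)

/-- Automorphisms of odd order with a fixed point `≠ 1` are trivial. -/
theorem eq_one_of_odd [Finite M] [Finite V] (hc : Nat.card M = Nat.card V ^ 2)
    (hk : ∀ x : M, x ≠ 1 → Nat.card (h.beta x).ker = Nat.card V) {g : MulAut M} (hg : ∀ m, q (g m) = q m)
    {n : ℕ} (hn : Odd n) (hgn : g ^ n = 1) {x : M} (hx : x ≠ 1) (hgx : g x = x) : g = 1 := by
  by_contra hg1
  have hm : ∃ m : M, g m ≠ m := by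
    by_contra hcon
    push Not at hcon
    exact hg1 (MulEquiv.ext hcon)
  obtain ⟨m, hm⟩ := hm
  set y := delta g m with hy
  have hyD : y ∈ (delta g).range := ⟨m, rfl⟩
  have hy1 : y ≠ 1 := by
    intro h1
    rw [delta_apply] at hy
    exact hm (eq_of_mul_eq_one' h.two (hy.symm.trans h1))
  have disj : ∀ c : M, c ∈ C g → c ∈ (delta g).range → c = 1 := by
    rintro c hcC ⟨m', rfl⟩
    set c := delta g m' with hcdef
    have h1 : g m' = m' * c := by
      rw [hcdef, delta_apply, ← mul_assoc, h.two, one_mul]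
    have h2 : ∀ k : ℕ, (g ^ k) m' = m' * c ^ k := by
      intro k
      induction k with
      | zero => simp
      | succ k ih =>
        rw [pow_succ, MulAut.mul_apply, h1, map_mul, ih]
        have h3 : ∀ k : ℕ, (g ^ k) c = c := by
          intro k
          induction k with
          | zero => simp
          | succ k ih => rw [pow_succ, MulAut.mul_apply, mem_C.1 hcC, ih]
        rw [h3, pow_succ, mul_assoc]
    have h3 := h2 n
    rw [hgn, MulAut.one_apply] at h3
    have h4 : c ^ n = 1 := (left_eq_mul.1 h3)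
    obtain ⟨j, rfl⟩ := hn
    rwa [pow_succ, pow_mul, sq, h.two, one_pow, one_mul] at h4
  have h1 : Nat.card (delta g).range < Nat.card V := by
    rw [← hk x hx]
    exact card_lt (h.range_le hg hgx) (h.self_mem_ker x) fun h2 => hx (disj x hgx h2)
  have h2 : Nat.card (C g) < Nat.card V := by
    rw [← hk y hy1]
    exact card_lt (h.C_le hg hyD) (h.self_mem_ker y) fun h2 => hy1 (disj y h2 hyD)
  have h3 := card_C_mul h.two g
  rw [hc, sq] at h3
  have h4 := Nat.mul_lt_mul'' h2 h1
  omega

/-- The fixed points of an involution. -/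
theorem invol [Finite M] [Finite V] (hc : Nat.card M = Nat.card V ^ 2)
    (hk : ∀ x : M, x ≠ 1 → Nat.card (h.beta x).ker = Nat.card V) {g : MulAut M} (hg : ∀ m, q (g m) = q m)
    (hgg : g * g = 1) (hg1 : g ≠ 1) {x : M} (hx : x ≠ 1) (hxC : x ∈ C g) : C g = (h.beta x).ker := by
  have hle : (delta g).range ≤ C g := by
    rintro _ ⟨m, rfl⟩
    have e : g (g m) = m := DFunLike.congr_fun hgg m
    rw [mem_C, delta_apply, map_mul, e, mul_comm]
  have hm : ∃ m : M, g m ≠ m := by
    by_contra hcon
    push Not at hcon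
    exact hg1 (MulEquiv.ext hcon)
  obtain ⟨m, hm⟩ := hm
  have hyD : delta g m ∈ (delta g).range := ⟨m, rfl⟩
  have hy1 : delta g m ≠ 1 := fun h1 => hm (eq_of_mul_eq_one' h.two h1)
  have key : ∀ d : M, d ∈ (delta g).range → d ≠ 1 → C g = (h.beta d).ker ∧ Nat.card (C g) = Nat.card V := by
    intro d hd hd1
    have h1 := h.C_le hg hd
    have h2 : Nat.card (C g) ≤ Nat.card V := by
      rw [← hk d hd1]
      exact Subgroup.card_le_of_le h1
    have h3 : Nat.card (delta g).range ≤ Nat.card (C g) := Subgroup.card_le_of_le hle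
    have h4 := card_C_mul h.two g
    rw [hc, sq] at h4
    have h5 : Nat.card V ≤ Nat.card (C g) := by
      by_contra h6
      rw [not_le] at h6
      have h7 := Nat.mul_lt_mul'' h6 (lt_of_le_of_lt h3 h6)
      omega
    refine ⟨Subgroup.eq_of_le_of_card_ge h1 ?_, le_antisymm h2 h5⟩
    rw [hk d hd1]
    exact h5
  obtain ⟨-, h6⟩ := key _ hyD hy1
  have h7 := card_C_mul h.two g
  rw [hc, h6, sq] at h7
  have h8 : Nat.card (delta g).range = Nat.card V := Nat.eq_of_mul_eq_mul_left Nat.card_pos h7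
  have h9 : (delta g).range = C g := Subgroup.eq_of_le_of_card_ge hle (by rw [h6, h8])
  exact (key x (h9 ▸ hxC) hx).1

/-- A perfect group of automorphisms preserving `q` is trivial. -/
theorem main [Finite M] [Finite V] (hc : Nat.card M = Nat.card V ^ 2)
    (hk : ∀ x : M, x ≠ 1 → Nat.card (h.beta x).ker = Nat.card V) (Γ : Subgroup (MulAut M)) (hΓ : ⁅Γ, Γ⁆ = Γ)
    (hq : ∀ g ∈ Γ, ∀ m, q (g m) = q m) : Γ = ⊥ := by
  classical
  have : Fact (Nat.Prime 2) := ⟨Nat.prime_two⟩
  have hfin : Finite (MulAut M) := Finite.of_injective (fun g : MulAut M => (g : M → M)) DFunLike.coe_injective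
  by_cases hM : Subsingleton M
  · rw [eq_bot_iff]
    intro g _
    rw [mem_bot]
    exact MulEquiv.ext fun m => Subsingleton.elim _ _
  rw [not_subsingleton_iff_nontrivial] at hM
  have hcomm : commutator Γ = ⊤ := by
    apply Subgroup.map_injective Γ.subtype_injective
    rw [Subgroup.map_subtype_commutator, hΓ, ← MonoidHom.range_eq_map, Subgroup.range_subtype]
  obtain ⟨S⟩ : Nonempty (Sylow 2 Γ) := inferInstance
  have pM : IsPGroup 2 M := fun m => ⟨1, by rw [pow_one, sq, h.two]⟩
  -- a fixed point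
  obtain ⟨m, hm, hm1⟩ : ∃ m : M, (∀ s : Γ, s ∈ (S : Subgroup Γ) → (s : MulAut M) m = m) ∧ m ≠ 1 := by
    have hdvd : 2 ∣ Nat.card M := by
      obtain ⟨s, hs⟩ := IsPGroup.iff_card.1 pM
      have h1 : 1 < Nat.card M := Finite.one_lt_card
      rw [hs] at h1 ⊢
      refine dvd_pow_self 2 ?_
      rintro rfl
      simp at h1
    obtain ⟨m, hm, hm1⟩ := S.isPGroup'.exists_fixed_point_of_prime_dvd_card_of_fixed_point M hdvd (a := (1 : M))
      (fun s => map_one (s : MulAut M))
    exact ⟨m, fun s hs => hm ⟨s, hs⟩, fun e => hm1 e.symm⟩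
  set L := (h.beta m).ker with hLdef
  have hCL : ∀ t : Γ, t ∈ (S : Subgroup Γ) → t * t = 1 → t ≠ 1 → C (t : MulAut M) = L := by
    intro t ht htt ht1
    refine h.invol hc hk (hq t t.2) ?_ ?_ hm1 (hm t ht)
    · exact congrArg Subtype.val htt
    · exact fun e => ht1 (Subtype.ext e)
  -- the stabiliser of `L`
  let N : Subgroup Γ :=
    { carrier := {g | ∀ l : M, (g : MulAut M) l ∈ L ↔ l ∈ L}
      one_mem' := fun l => Iff.rfl
      mul_mem' := by
        intro a b ha hb l
        exact (ha _).trans (hb _)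
      inv_mem' := by
        intro a ha l
        have h1 := ha ((a : MulAut M)⁻¹ l)
        rw [MulAut.apply_inv_self] at h1
        exact h1.symm }
  have hSN : (S : Subgroup Γ) ≤ N := by
    intro s hs l
    rw [hLdef, MonoidHom.mem_ker, MonoidHom.mem_ker, h.beta_apply, h.beta_apply]
    have h1 := B_map (hq s s.2) m l
    rw [hm s hs] at h1
    rw [h1]
  have hctrl : ∀ x ∈ (S : Subgroup Γ), x ≠ 1 → ∀ g : Γ, g * x * g⁻¹ ∈ (S : Subgroup Γ) →
      g ∈ (S : Subgroup Γ) := by
    intro x hx hx1 g hg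
    -- a power of `x` which is an involution
    obtain ⟨k, hk1, hk2⟩ : ∃ k : ℕ, x ^ (2 ^ k) ≠ 1 ∧ x ^ (2 ^ (k + 1)) = 1 := by
      obtain ⟨j, hj⟩ := IsPGroup.iff_orderOf.1 S.isPGroup' ⟨x, hx⟩
      rw [← Subgroup.orderOf_coe] at hj
      change orderOf x = 2 ^ j at hj
      have hj0 : j ≠ 0 := by
        rintro rfl
        rw [pow_zero, orderOf_eq_one_iff] at hj
        exact hx1 hj
      obtain ⟨k, rfl⟩ := Nat.exists_eq_succ_of_ne_zero hj0
      refine ⟨k, fun e => ?_, ?_⟩
      · have h1 := orderOf_dvd_of_pow_eq_one e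
        rw [hj, Nat.pow_dvd_pow_iff_le_right (by norm_num)] at h1
        omega
      · rw [← Nat.succ_eq_add_one, ← hj, pow_orderOf_eq_one]
    set t := x ^ (2 ^ k) with ht
    have htt : t * t = 1 := by rw [ht, ← sq, ← pow_mul, ← pow_succ, hk2]
    have htS : t ∈ (S : Subgroup Γ) := pow_mem hx _
    have hgt : g * t * g⁻¹ ∈ (S : Subgroup Γ) := by
      rw [ht, ← conj_pow]
      exact pow_mem hg _
    have e1 := hCL t htS htt hk1
    have e2 := hCL (g * t * g⁻¹) hgt (by
      have : g * t * g⁻¹ * (g * t * g⁻¹) = g * (t * t) * g⁻¹ := by group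
      rw [this, htt, mul_one, mul_inv_cancel]) (fun e => hk1 (by
        have : t = g⁻¹ * (g * t * g⁻¹) * g := by group
        rw [this, e, mul_one, inv_mul_cancel]))
    -- `N` centralises `L`
    have hLL : ∀ l ∈ L, ∀ l' ∈ L, B q l l' = 1 := by
      intro l hl l' hl'
      by_cases hl1 : l = 1
      · rw [hl1]
        exact (B_comm q 1 l').trans (h.beta l').map_one
      · rw [← e1] at hl hl'
        rw [h.invol hc hk (hq t t.2) (congrArg Subtype.val htt) (fun e => hk1 (Subtype.ext e)) hl1 hl] at hl'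
        exact hl'
    have hNfix : ∀ a ∈ N, ∀ l ∈ L, (a : MulAut M) l = l := by
      intro a ha l hl
      have h1 : (a : MulAut M) l ∈ L := (ha l).2 hl
      have h2 := h.q_mul l ((a : MulAut M) l)
      rw [hq a a.2, h.twoV, one_mul, hLL l hl _ h1] at h2
      exact eq_of_mul_eq_one' h.two (h.one _ h2)
    have hNp : IsPGroup 2 N := by
      rintro ⟨a, ha⟩
      obtain ⟨j, n, hn, hjn⟩ := Nat.exists_eq_two_pow_mul_odd (n := orderOf a) (orderOf_pos a).ne'
      refine ⟨j, ?_⟩
      have h1 : (a ^ (2 ^ j)) ^ n = 1 := by rw [← pow_mul, ← hjn, pow_orderOf_eq_one]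
      have h2 : ((a ^ (2 ^ j) : Γ) : MulAut M) = 1 :=
        h.eq_one_of_odd hc hk (hq _ (a ^ (2 ^ j)).2) hn (congrArg Subtype.val h1) hm1
          (hNfix _ (pow_mem ha _) m (h.self_mem_ker m))
      exact Subtype.ext (Subtype.ext h2)
    have hNS : N = (S : Subgroup Γ) := S.is_maximal' hNp hSN
    rw [← hNS]
    have h3 : ∀ l : M, (l ∈ L ↔ (g : MulAut M)⁻¹ l ∈ L) := by
      intro l
      have h4 : l ∈ C ((g * t * g⁻¹ : Γ) : MulAut M) ↔ (g : MulAut M)⁻¹ l ∈ C (t : MulAut M) := by
        rw [mem_C, mem_C]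
        change (g : MulAut M) ((t : MulAut M) ((g : MulAut M)⁻¹ l)) = l ↔ _
        constructor
        · intro h5
          have h6 := congrArg (fun z => (g : MulAut M)⁻¹ z) h5
          simp only [MulAut.inv_apply_self] at h6
          exact h6
        · intro h5
          rw [h5, MulAut.apply_inv_self]
      rwa [e1, e2] at h4
    intro l
    have h5 := h3 ((g : MulAut M) l)
    rwa [MulAut.inv_apply_self] at h5
  have hS := Cfsg.Agent.Characters.CNFocal.le_commutator_of_controls 2 S hcomm (S : Subgroup Γ) le_rfl hctrl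
  have hSsol : Group.IsSolvable (S : Subgroup Γ) := by
    have := S.isPGroup'.isNilpotent
    infer_instance
  have hSbot : (S : Subgroup Γ) = ⊥ :=
    bot_of_perfect (S : Subgroup Γ) hSsol (le_antisymm (Subgroup.commutator_le.2 fun a ha b hb =>
      mul_mem (mul_mem (mul_mem ha hb) (inv_mem ha)) (inv_mem hb)) hS)
  have hodd : Odd (Nat.card Γ) := by
    rw [← Nat.not_even_iff_odd, even_iff_two_dvd]
    intro h2
    have h3 := S.dvd_card_of_dvd_card h2
    rw [hSbot, Subgroup.card_bot] at h3
    omega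
  exact bot_of_perfect Γ (Cfsg.Agent.S0205.result hodd) hΓ

end QM

end Cfsg.Agent.H868.Quad
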