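import Mathlib
import Cfsg.Agent.H868.QuadGroup

/-!
# 2-groups of exponent 4 with central involutions, permuted transitively by the automorphisms (helper868, for S3924)

`quad` : a perfect group of automorphisms of such a group `R` which is trivial on `V = {x | x ^ 2 = 1}` is trivial
on `R / V`.
-/

set_option autoImplicit false

namespace Cfsg.Agent.H868.Quad

open Subgroup

section

variable {R : Type*} [Group R]

/-- the subgroup of the elements with square 1 -/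
def Om (hV : ∀ x y : R, x ^ 2 = 1 → x * y = y * x) : Subgroup R where
  carrier := {x | x ^ 2 = 1}
  one_mem' := one_pow 2
  mul_mem' := by
    intro a b (ha : a ^ 2 = 1) (hb : b ^ 2 = 1)
    change (a * b) ^ 2 = 1
    have : Commute a b := hV a b ha
    rw [this.mul_pow, ha, hb, one_mul]
  inv_mem' := by
    intro a (ha : a ^ 2 = 1)
    change a⁻¹ ^ 2 = 1
    rw [inv_pow, ha, inv_one]

variable (hV : ∀ x y : R, x ^ 2 = 1 → x * y = y * x)

theorem mem_Om {x : R} : x ∈ Om hV ↔ x ^ 2 = 1 := Iff.rfl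

instance Om_normal : (Om hV).Normal := ⟨fun n hn g => by
  have h1 : g * n * g⁻¹ = n := by
    rw [← hV n g hn, mul_assoc, mul_inv_cancel, mul_one]
  rw [h1]
  exact hn⟩

/-- `Om` as a commutative group -/
@[reducible] def omComm : CommGroup (Om hV) :=
  { (inferInstance : Group (Om hV)) with
    mul_comm := fun a b => Subtype.ext (hV a b a.2) }

theorem quot_sq (h4 : ∀ x : R, (x ^ 2) ^ 2 = 1) (m : R ⧸ Om hV) : m * m = 1 := by
  obtain ⟨x, rfl⟩ := QuotientGroup.mk_surjective m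
  rw [← QuotientGroup.mk_mul, QuotientGroup.eq_one_iff, ← sq]
  exact h4 x

theorem quot_comm (h4 : ∀ x : R, (x ^ 2) ^ 2 = 1) (a b : R ⧸ Om hV) : a * b = b * a := by
  have h1 := quot_sq hV h4
  have inv : ∀ m : R ⧸ Om hV, m⁻¹ = m := fun m => inv_eq_of_mul_eq_one_left (h1 m)
  rw [← inv (a * b), mul_inv_rev, inv, inv]

/-- the quotient as a commutative group -/
@[reducible] def quotComm (h4 : ∀ x : R, (x ^ 2) ^ 2 = 1) : CommGroup (R ⧸ Om hV) :=
  { (inferInstance : Group (R ⧸ Om hV)) with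
    mul_comm := quot_comm hV h4 }

/-- the commutator `(xy)⁻¹(yx)` -/
def kap (x y : R) : R := (x * y)⁻¹ * (y * x)

theorem kap_spec (x y : R) : y * x = x * y * kap x y := by
  unfold kap; group

theorem kap_mem (h4 : ∀ x : R, (x ^ 2) ^ 2 = 1) (x y : R) : kap x y ∈ Om hV := by
  unfold kap
  rw [← QuotientGroup.eq, QuotientGroup.mk_mul, QuotientGroup.mk_mul]
  exact quot_comm hV h4 _ _

include hV in
theorem kap_mul (h4 : ∀ x : R, (x ^ 2) ^ 2 = 1) (x y z : R) : kap (x * y) z = kap x z * kap y z := by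
  have h1 := kap_mem hV h4 x z
  have h2 : z * (x * y) = x * y * z * (kap x z * kap y z) := by
    calc z * (x * y) = (z * x) * y := by rw [mul_assoc]
      _ = x * z * (kap x z * y) := by rw [kap_spec x z, mul_assoc]
      _ = x * (z * y) * kap x z := by rw [hV _ y h1]; simp only [mul_assoc]
      _ = x * y * z * (kap y z * kap x z) := by rw [kap_spec y z]; simp only [mul_assoc]
      _ = _ := by rw [hV _ (kap y z) h1]
  exact mul_left_cancel ((kap_spec (x * y) z).symm.trans h2)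

include hV in
theorem sq_mul (h4 : ∀ x : R, (x ^ 2) ^ 2 = 1) (x y : R) : (x * y) ^ 2 = x ^ 2 * y ^ 2 * kap x y := by
  have h1 := kap_mem hV h4 x y
  calc (x * y) ^ 2 = x * (y * x) * y := by rw [sq]; simp only [mul_assoc]
    _ = x * (x * y * kap x y) * y := by rw [kap_spec x y]
    _ = x * x * y * (kap x y * y) := by simp only [mul_assoc]
    _ = x * x * y * (y * kap x y) := by rw [hV _ y h1]
    _ = _ := by rw [sq, sq]; simp only [mul_assoc]

/-- the quadratic map `xV ↦ x²` -/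
def qq (h4 : ∀ x : R, (x ^ 2) ^ 2 = 1) (m : R ⧸ Om hV) : Om hV :=
  Quotient.liftOn' m (fun x => (⟨x ^ 2, h4 x⟩ : Om hV)) (by
    intro a b hab
    rw [QuotientGroup.leftRel_apply] at hab
    have h1 : b = a * (a⁻¹ * b) := by group
    apply Subtype.ext
    change a ^ 2 = b ^ 2
    have h2 : Commute a (a⁻¹ * b) := (hV _ a hab).symm
    rw [h1, h2.mul_pow, hab, mul_one])

theorem qq_mk (h4 : ∀ x : R, (x ^ 2) ^ 2 = 1) (x : R) : qq hV h4 (x : R ⧸ Om hV) = ⟨x ^ 2, h4 x⟩ := rfl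

theorem QM_qq (h4 : ∀ x : R, (x ^ 2) ^ 2 = 1) :
    @QM (R ⧸ Om hV) (Om hV) (quotComm hV h4) (omComm hV) (qq hV h4) := by
  let _ := quotComm hV h4
  let _ := omComm hV
  have hB : ∀ x y : R, B (qq hV h4) (x : R ⧸ Om hV) (y : R ⧸ Om hV) = ⟨kap x y, kap_mem hV h4 x y⟩ := by
    intro x y
    apply Subtype.ext
    change (x * y) ^ 2 * (x ^ 2 * y ^ 2) = kap x y
    rw [sq_mul hV h4, mul_assoc, hV (kap x y) _ (kap_mem hV h4 x y), ← mul_assoc]
    have h1 : (x ^ 2 * y ^ 2) * (x ^ 2 * y ^ 2) = 1 := by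
      have h2 : x ^ 2 * y ^ 2 ∈ Om hV := mul_mem (h4 x) (h4 y)
      rw [← sq]
      exact h2
    rw [h1, one_mul]
  refine ⟨quot_sq hV h4, fun v => Subtype.ext ?_, ?_, ?_, ?_⟩
  · change (v : R) * v = 1
    rw [← sq]
    exact v.2
  · exact Subtype.ext (one_pow 2)
  · intro m
    obtain ⟨x, rfl⟩ := QuotientGroup.mk_surjective m
    intro h
    rw [QuotientGroup.eq_one_iff]
    exact congrArg Subtype.val h
  · intro x y z
    obtain ⟨x, rfl⟩ := QuotientGroup.mk_surjective x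
    obtain ⟨y, rfl⟩ := QuotientGroup.mk_surjective y
    obtain ⟨z, rfl⟩ := QuotientGroup.mk_surjective z
    have h1 : ((x : R ⧸ Om hV) * (y : R ⧸ Om hV)) = ((x * y : R) : R ⧸ Om hV) := rfl
    rw [h1, hB, hB, hB]
    exact Subtype.ext (kap_mul hV h4 x y z)

theorem Om_map (φ : MulAut R) : (Om hV).map (φ : R →* R) = Om hV := by
  ext x
  constructor
  · rintro ⟨y, hy, rfl⟩
    change (φ y) ^ 2 = 1
    rw [← map_pow, (show y ^ 2 = 1 from hy), map_one]
  · intro hx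
    refine ⟨φ⁻¹ x, ?_, MulAut.apply_inv_self _ _ _⟩
    change (φ⁻¹ x) ^ 2 = 1
    rw [← map_pow, (show x ^ 2 = 1 from hx), map_one]

/-- the action of the automorphisms on the quotient -/
def rho : MulAut R →* MulAut (R ⧸ Om hV) where
  toFun φ := QuotientGroup.congr (Om hV) (Om hV) φ (Om_map hV φ)
  map_one' := by
    ext m
    obtain ⟨x, rfl⟩ := QuotientGroup.mk_surjective m
    rfl
  map_mul' := by
    intro a b
    ext m
    obtain ⟨x, rfl⟩ := QuotientGroup.mk_surjective m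
    rfl

theorem rho_mk (φ : MulAut R) (x : R) : rho hV φ (x : R ⧸ Om hV) = ((φ x : R) : R ⧸ Om hV) := rfl

end

/-- The lemma QUAD for S3924. -/
theorem quad {R : Type*} [Group R] [Finite R] (hV : ∀ x y : R, x ^ 2 = 1 → x * y = y * x)
    (h4 : ∀ x : R, (x ^ 2) ^ 2 = 1)
    (htr : ∀ v w : R, v ≠ 1 → w ≠ 1 → v ^ 2 = 1 → w ^ 2 = 1 → ∃ φ : MulAut R, φ v = w)
    (Γ : Subgroup (MulAut R)) (hΓ : ⁅Γ, Γ⁆ = Γ) (hc : ∀ φ ∈ Γ, ∀ v, v ^ 2 = 1 → φ v = v) :
    ∀ φ ∈ Γ, ∀ x, (x⁻¹ * φ x) ^ 2 = 1 := by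
  let _ := quotComm hV h4
  let _ := omComm hV
  have h := QM_qq hV h4
  have hq : ∀ g ∈ Γ.map (rho hV), ∀ m, qq hV h4 (g m) = qq hV h4 m := by
    rintro _ ⟨φ, hφ, rfl⟩ m
    obtain ⟨x, rfl⟩ := QuotientGroup.mk_surjective m
    rw [rho_mk, qq_mk, qq_mk]
    apply Subtype.ext
    change (φ x) ^ 2 = x ^ 2
    rw [← map_pow]
    exact hc φ hφ _ (h4 x)
  suffices hbot : Γ.map (rho hV) = ⊥ by
    intro φ hφ x
    have h1 : rho hV φ ∈ Γ.map (rho hV) := ⟨φ, hφ, rfl⟩
    rw [hbot, mem_bot] at h1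
    have h2 := DFunLike.congr_fun h1 (x : R ⧸ Om hV)
    rw [rho_mk] at h2
    have h3 : ((x : R) : R ⧸ Om hV) = ((φ x : R) : R ⧸ Om hV) := h2.symm
    rw [QuotientGroup.eq] at h3
    exact h3
  have hN : ∀ v w : Om hV, v ≠ 1 → w ≠ 1 →
      Nat.card {m // qq hV h4 m = v} = Nat.card {m // qq hV h4 m = w} := by
    intro v w hv hw
    obtain ⟨φ, hφ⟩ := htr v w (fun e => hv (Subtype.ext e)) (fun e => hw (Subtype.ext e)) v.2 w.2
    refine Nat.card_congr ((rho hV φ).toEquiv.subtypeEquiv fun m => ?_)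
    obtain ⟨x, rfl⟩ := QuotientGroup.mk_surjective m
    change qq hV h4 (x : R ⧸ Om hV) = v ↔ qq hV h4 (rho hV φ (x : R ⧸ Om hV)) = w
    rw [rho_mk, qq_mk, qq_mk, Subtype.ext_iff, Subtype.ext_iff]
    change x ^ 2 = v ↔ (φ x) ^ 2 = w
    rw [← map_pow, ← hφ]
    exact φ.injective.eq_iff.symm
  rcases h.dichotomy hN with hinj | ⟨hcard, hZ⟩
  · rw [eq_bot_iff]
    intro g hg
    rw [mem_bot]
    exact MulEquiv.ext fun m => hinj (hq g hg m)
  · refine h.main hcard (fun x hx => h.card_ker hcard hZ hx) _ ?_ hq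
    rw [← Subgroup.map_commutator, hΓ]

end Cfsg.Agent.H868.Quad
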