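import Cfsg.Agent.H868.CopSuz

/-!
# The Suzuki group: `CB 3 5 1`, `CB 2 3 4`, `CB 2 5 1` (S4175 / S4174)
-/

set_option autoImplicit false

namespace Cfsg.Agent.H868.CopSuz

open Subgroup Cfsg.Agent.H537.Cop
open Cfsg.Spor (Suz)
open Cfsg.Agent.SuzThree.CentA (z0)
open Cfsg.Agent.KFacts.SuzLFour (e0)
open Cfsg.Agent.KFacts.SuzTwoB (CE mem_CE card_CE)
open Cfsg.Agent.CpAutSuz.Classes

/-- **`CB 3 5 1`** -/
theorem cb_three_five : CB 3 5 1 Suz := fun _ hx => Cfsg.Agent.CpAutSuz.Five.not_25 hx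

theorem card_conj_eq {t t' g : Suz} (h : g * t * g⁻¹ = t') :
    Nat.card ↥(centralizer ({t'} : Set Suz)) = Nat.card ↥(centralizer ({t} : Set Suz)) := by
  rw [← h]
  have h1 := card_centralizer_equiv (MulAut.conj g) t
  rw [h1]
  rfl

/-- the orders of the centralizers of involutions -/
theorem card_inv {t : Suz} (ht : orderOf t = 2) :
    Nat.card ↥(centralizer ({t} : Set Suz)) = 3317760 ∨ Nat.card ↥(centralizer ({t} : Set Suz)) = 161280 := by
  rcases exists_conj_inv ht with ⟨g, hg⟩ | ⟨g, hg⟩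
  · left
    rw [card_conj_eq hg, card_cz]
  · right
    rw [card_conj_eq hg]
    exact card_CE

/-- **`CB 2 3 4`** -/
theorem cb_two_three : CB 2 3 4 Suz := by
  intro t ht
  rcases card_inv ht with h | h <;> rw [h] <;> norm_num

/-- **`CB 2 5 1`** -/
theorem cb_two_five : CB 2 5 1 Suz := by
  intro t ht
  rcases card_inv ht with h | h <;> rw [h] <;> norm_num

end Cfsg.Agent.H868.CopSuz
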