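import Cfsg.Agent.H92.ExtP
import Cfsg.Prelude.Def_Classification2
import Cfsg.Agent.QTKE.Iso

/-!
# S2215: the alternating groups with nonabelian Sylow `p`-subgroups of order `p³` (helper868)
-/

set_option autoImplicit false

namespace Cfsg.Agent.H868.ExtAlt

open Cfsg Cfsg.Lie Cfsg.Agent.H92.ExtP

variable {p : ℕ} [Fact p.Prime]

/-- the action of `(Z_p)^3` on three disjoint copies of `Z_p` -/
def act (p : ℕ) : (Fin 3 → Multiplicative (ZMod p)) →* Equiv.Perm (Fin 3 × ZMod p) where
  toFun g :=
    { toFun := fun x => (x.1, (g x.1).toAdd + x.2)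
      invFun := fun x => (x.1, -(g x.1).toAdd + x.2)
      left_inv := fun x => by ext <;> simp
      right_inv := fun x => by ext <;> simp }
  map_one' := by ext x <;> simp
  map_mul' g h := by ext x <;> simp [add_assoc]

theorem act_injective (p : ℕ) : Function.Injective (act p) := by
  intro g h hgh
  funext i
  have h1 := congrArg (fun f : Equiv.Perm (Fin 3 × ZMod p) => (f (i, 0)).2) hgh
  simpa [act] using h1

theorem exists_comm {n : ℕ} (hp2 : p ≠ 2) (hn : 3 * p ≤ n) :
    ∃ A : Subgroup (alternatingGroup (Fin n)), Nat.card A = p ^ 3 ∧ ∀ a ∈ A, ∀ b ∈ A, a * b = b * a := by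
  have hp : p.Prime := Fact.out
  have : NeZero p := ⟨hp.ne_zero⟩
  classical
  have hcard : Fintype.card (Fin 3 × ZMod p) ≤ Fintype.card (Fin n) := by
    rw [Fintype.card_prod, Fintype.card_fin, ZMod.card, Fintype.card_fin]
    exact hn
  obtain ⟨ι⟩ := Function.Embedding.nonempty_of_card_le hcard
  let f : (Fin 3 → Multiplicative (ZMod p)) →* Equiv.Perm (Fin n) :=
    (Equiv.Perm.viaEmbeddingHom ι).comp (act p)
  have hf : Function.Injective f := (Equiv.Perm.viaEmbeddingHom_injective ι).comp (act_injective p)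
  have hmem : ∀ g, f g ∈ alternatingGroup (Fin n) := by
    intro g
    rw [Equiv.Perm.mem_alternatingGroup]
    have h1 : g ^ p = 1 := by
      funext i
      change (g i) ^ p = 1
      apply Multiplicative.toAdd.injective
      rw [toAdd_pow, toAdd_one, nsmul_eq_mul, CharP.cast_eq_zero, zero_mul]
    have h2 : (Equiv.Perm.sign (f g)) ^ p = 1 := by
      rw [← map_pow, ← map_pow, h1, map_one, map_one]
    rcases Int.units_eq_one_or (Equiv.Perm.sign (f g)) with h3 | h3
    · exact h3
    · rw [h3, (hp.odd_of_ne_two hp2).neg_one_pow] at h2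
      exact absurd h2 (by decide)
  let f' : (Fin 3 → Multiplicative (ZMod p)) →* alternatingGroup (Fin n) := f.codRestrict _ hmem
  have hf' : Function.Injective f' := fun a b h => hf (congrArg Subtype.val h)
  refine ⟨f'.range, ?_, ?_⟩
  · rw [← Nat.card_congr (MonoidHom.ofInjective hf').toEquiv, Nat.card_pi]
    simp [Nat.card_eq_fintype_card, Fintype.card_multiplicative, ZMod.card]
  · rintro _ ⟨a, rfl⟩ _ ⟨b, rfl⟩
    rw [← map_mul, ← map_mul, mul_comm]

theorem alt {n : ℕ} (hn : 5 ≤ n) (h : Ext p ↥(alternatingGroup (Fin n))) : p = 2 ∧ (n = 6 ∨ n = 7) := by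
  have hp : p.Prime := Fact.out
  have : Nontrivial (Fin n) := Fin.nontrivial_iff_two_le.2 (by omega)
  have hc : 2 * Nat.card (alternatingGroup (Fin n)) = n.factorial := by
    rw [two_mul_nat_card_alternatingGroup, Nat.card_perm, Nat.card_eq_fintype_card, Fintype.card_fin]
  by_cases hp2 : p = 2
  · subst hp2
    refine ⟨rfl, ?_⟩
    by_contra h2
    have h3 : n = 5 ∨ 8 ≤ n := by omega
    rcases h3 with rfl | h3
    · have h4 := h.dvd
      have h5 : Nat.card (alternatingGroup (Fin 5)) = 60 := by
        have : (5 : ℕ).factorial = 120 := by decide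
        omega
      rw [h5] at h4
      norm_num at h4
    · apply h.not_dvd
      have h4 : (8 : ℕ).factorial ∣ n.factorial := Nat.factorial_dvd_factorial h3
      rw [← hc, show (8 : ℕ).factorial = 2 * (2 ^ 4 * 1260) by decide] at h4
      exact (Dvd.intro _ rfl).trans (Nat.dvd_of_mul_dvd_mul_left (by norm_num) h4)
  · exfalso
    have hodd : Odd p := hp.odd_of_ne_two hp2
    have hcop : ∀ k, Nat.Coprime (p ^ k) 2 := fun k =>
      Nat.Coprime.pow_left k ((Nat.Prime.coprime_iff_not_dvd hp).2 (by
        intro h1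
        exact hp2 ((Nat.prime_dvd_prime_iff_eq hp Nat.prime_two).1 h1)))
    by_cases hn2 : n < 3 * p
    · -- the `p`-part of `n!` is at most `p²`
      have h1 : p ^ 3 ∣ n.factorial := by
        rw [← hc]
        exact dvd_mul_of_dvd_right h.dvd _
      have h2 := (hp.pow_dvd_factorial_iff (n := n) (r := 3) (b := Nat.log p n + 1) (Nat.lt_succ_self _)).1 h1
      have h4 : n < p ^ 2 := by
        have : 3 ≤ p := by
          have := hp.two_le
          omega
        nlinarith
      have h3 : Nat.log p n ≤ 1 := by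
        have := (Nat.log_lt_iff_lt_pow hp.one_lt (by omega : n ≠ 0)).2 h4
        omega
      have h5 : ∑ i ∈ Finset.Ico 1 (Nat.log p n + 1), n / p ^ i ≤ ∑ i ∈ Finset.Ico 1 2, n / p ^ i :=
        Finset.sum_le_sum_of_subset (Finset.Ico_subset_Ico_right (by omega))
      have h6 : ∑ i ∈ Finset.Ico 1 2, n / p ^ i = n / p := by
        simp
      have h7 : n / p < 3 := by
        rw [Nat.div_lt_iff_lt_mul hp.pos]
        omega
      omega
    · obtain ⟨A, hA, hcomm⟩ := exists_comm (n := n) hp2 (not_lt.1 hn2)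
      obtain ⟨a, ha, b, hb, hab⟩ := h.noncomm A hA
      exact hab (hcomm a ha b hb)

theorem alt_six : ∃ (F : Type) (_ : Field F) (_ : Fintype F), Fintype.card F = 9 ∧
    Nonempty (↥(alternatingGroup (Fin 6)) ≃* Matrix.ProjectiveSpecialLinearGroup (Fin 2) F) := by
  have : Fact (Nat.Prime 3) := ⟨by norm_num⟩
  let F := GaloisField 3 2
  let _ : Fintype F := Fintype.ofFinite F
  have hF : Fintype.card F = 9 := by
    rw [← Nat.card_eq_fintype_card, GaloisField.card 3 2 (by norm_num)]
    norm_num
  obtain ⟨e⟩ := Cfsg.Agent.QTKE.Iso.psl29 F hF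
  exact ⟨F, inferInstance, inferInstance, hF, ⟨e.symm⟩⟩

end Cfsg.Agent.H868.ExtAlt
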