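import Cfsg.Agent.H537.CopDefs
import Cfsg.Agent.H868.Extra7
import Cfsg.Agent.KFacts.SuzLarge
import Cfsg.Agent.CpAutSuz.Local
import Cfsg.Agent.CpAutSuz.ThreeC

/-!
# The Suzuki group: bounds for centralizers (task 1973, S4175 / S4174)

* `cb_three_two` : `CB 3 2 8`;
* `cb_five_two` : `CB 5 2 4`;
* `cb_seven_two` : `CB 7 2 2`;
* `ne_five_seven` : elements of order 5 and 7 do not commute.
-/

set_option autoImplicit false
set_option maxRecDepth 100000

namespace Cfsg.Agent.H868.CopSuz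

open Subgroup Cfsg Cfsg.Agent.H537.Cop
open Cfsg.Spor (Suz)
open Cfsg.Agent.BpSpor (Cen.not_dvd_of_inv Cen.card_inf_conj)
open Cfsg.Agent.SporadicRecognition.SuzPhi Cfsg.Agent.SporadicRecognition.SuzOrder
open Cfsg.Agent.SuzThree.CentA (z0 C1 mem_C1)
open Cfsg.Agent.SuzThree.QZero (Q0)
open Cfsg.Agent.KFacts.SuzLFour (L e0)
open Cfsg.Agent.KFacts.SuzTwoB (CE mem_CE card_CE card_L VL)
open Cfsg.Agent.SporRec.SuzCl (Fx card_Fx_conj)
open Cfsg.Agent.CpAutSuz.Fix Cfsg.Agent.CpAutSuz.Classes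
open Cfsg.Agent.CpAutSuz.Five (card_Fx_five)
open Cfsg.Agent.Lib.PermNetOrbit

theorem finSuz : Finite Suz := Nat.finite_of_card_ne_zero (by rw [card_Suz]; norm_num)

/-! ### Fixed points -/

/-- an element of prime order acting on a finite set of points -/
theorem modeq {p : ℕ} [hp : Fact p.Prime] {v : Suz} (hv : orderOf v = p) (X : Finset ℕ) (hX : ∀ a ∈ X, φ v a ∈ X) :
    X.card ≡ (X.filter fun a => φ v a = a).card [MOD p] := by
  classical
  let f : Function.End X := fun a => ⟨φ v a, hX a a.2⟩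
  have hf : ∀ (m : ℕ) (a : X), (((f ^ m) a : X) : ℕ) = φ (v ^ m) a := by
    intro m
    induction m with
    | zero =>
      intro a
      rw [pow_zero, pow_zero, map_one]
      rfl
    | succ m ih =>
      intro a
      rw [pow_succ' f, pow_succ', φ_mul_apply, ← ih]
      rfl
  have hf1 : f ^ p ^ 1 = 1 := by
    funext a
    apply Subtype.ext
    rw [hf, pow_one, ← hv, pow_orderOf_eq_one, map_one]
    rfl
  have h1 := Equiv.Perm.card_fixedPoints_modEq (f := f) (p := p) (n := 1) hf1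
  rw [Fintype.card_coe] at h1
  have h2 : Fintype.card (Function.fixedPoints f) = (X.filter fun a => φ v a = a).card := by
    rw [← Fintype.card_coe]
    exact Fintype.card_congr ⟨fun a => ⟨a.1.1, Finset.mem_filter.2 ⟨a.1.2, congrArg Subtype.val a.2⟩⟩,
      fun b => ⟨⟨b.1, (Finset.mem_filter.1 b.2).1⟩, Subtype.ext (Finset.mem_filter.1 b.2).2⟩, fun a => rfl, fun b => rfl⟩
  rwa [h2] at h1

/-- common fixed points -/
theorem common {p : ℕ} [hp : Fact p.Prime] {v w : Suz} (hv : orderOf v = p) (h : v * w = w * v) :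
    (Fx w).card ≡ (Fx v ∩ Fx w).card [MOD p] := by
  have h1 := modeq hv (Fx w) fun a ha => φ_fix_of_comm h ha
  have h2 : (Fx w).filter (fun a => φ v a = a) = Fx v ∩ Fx w := by
    ext a
    simp only [Finset.mem_filter, Finset.mem_inter, mem_Fx]
    constructor
    · rintro ⟨⟨h1, h2⟩, h3⟩; exact ⟨⟨h1, h3⟩, h1, h2⟩
    · rintro ⟨⟨h1, h3⟩, -, h2⟩; exact ⟨⟨h1, h2⟩, h3⟩
  rwa [h2] at h1

/-- **elements of order 5 and 7 do not commute** -/
theorem ne_five_seven (x y : Suz) (hx : orderOf x = 5) (hy : orderOf y = 7) : x * y ≠ y * x := by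
  intro h
  have h5 : Fact (Nat.Prime 5) := ⟨by norm_num⟩
  have h7 : Fact (Nat.Prime 7) := ⟨by norm_num⟩
  have c1 := common hx h
  have c2 := common hy h.symm
  rw [card_Fx_seven hy] at c1
  rw [Finset.inter_comm] at c2
  have h4 : (Fx x ∩ Fx y).card ≤ 4 := (Finset.card_le_card Finset.inter_subset_right).trans (card_Fx_seven hy).le
  generalize (Fx x ∩ Fx y).card = m at *
  rcases card_Fx_five hx with h1 | h1 <;> rw [h1] at c2 <;> interval_cases m <;> revert c1 c2 <;> decide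

/-! ### 2-parts -/

/-- the 2-part from the orders of the 2-subgroups -/
theorem not_dvd_of {H : Subgroup Suz} {m : ℕ}
    (h : ∀ T : Subgroup Suz, IsPGroup 2 T → T ≤ H → Nat.card T ∣ 2 ^ m) : ¬ 2 ^ (m + 1) ∣ Nat.card H := by
  intro hd
  have hfin := finSuz
  have h2 : Fact (Nat.Prime 2) := ⟨Nat.prime_two⟩
  obtain ⟨T, hT⟩ := Sylow.exists_subgroup_card_pow_prime 2 hd
  have h3 := h (T.map H.subtype) ((IsPGroup.of_card hT).map _) (map_subtype_le T)
  rw [card_map_of_injective H.subtype_injective, hT] at h3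
  exact absurd ((Nat.pow_dvd_pow_iff_le_right (by norm_num)).1 h3) (by omega)

theorem card_Q0 : Nat.card Q0 = 2 ^ 7 := Cfsg.Agent.KFacts.SuzR.card_R

theorem card_cz : Nat.card (centralizer ({z0} : Set Suz)) = 3317760 := by
  have h1 : (centralizer ({z0} : Set Suz)) = C1 := by
    rfl
  rw [h1, Cfsg.Agent.SuzThree.CentCard.card_C1]

theorem two_z0_three {x : Suz} (hx : orderOf x = 3) (hxz : x * z0 = z0 * x) :
    ¬ 2 ^ 9 ∣ Nat.card (centralizer ({z0} : Set Suz) ⊓ centralizer ({x} : Set Suz) : Subgroup Suz) := by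
  have hfin := finSuz
  refine not_dvd_of fun T hT hle => Extra7.card_three Cfsg.Agent.KFacts.SuzLarge.large card_Q0 hx hxz hT
    (fun t ht => mem_centralizer_singleton_iff.1 (hle ht).1) (fun t ht => mem_centralizer_singleton_iff.1 (hle ht).2) ?_
  rw [card_cz]
  norm_num

theorem two_z0_five {x : Suz} (hx : orderOf x = 5) (hxz : x * z0 = z0 * x) :
    ¬ 2 ^ 5 ∣ Nat.card (centralizer ({z0} : Set Suz) ⊓ centralizer ({x} : Set Suz) : Subgroup Suz) := by
  have hfin := finSuz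
  exact not_dvd_of fun T hT hle => Extra7.card_five Cfsg.Agent.KFacts.SuzLarge.large card_Q0 hx hxz hT
    (fun t ht => mem_centralizer_singleton_iff.1 (hle ht).1) (fun t ht => mem_centralizer_singleton_iff.1 (hle ht).2)

/-! ### Involutions of class 2B -/

/-- an element of odd order of `L` does not commute with an involution of `L` -/
theorem no_inv {x t : Suz} (hx : x ∈ L) (ht : t ∈ L) (h5 : x ^ 5 = 1) (hx1 : x ≠ 1) (ht2 : t * t = 1)
    (ht1 : t ≠ 1) : x * t ≠ t * x := by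
  intro hc
  obtain ⟨A⟩ := LThreeFour.exists_dat (F := Cfsg.Agent.SporadicA.FieldFour.F4) rfl
    Cfsg.Agent.CTwoTab.SuzPlane.equiv
  obtain ⟨g, hg⟩ := A.invol_conj ⟨t, ht⟩ (fun h => ht1 (congrArg Subtype.val h)) (Subtype.ext ht2)
  have h1 : (g * ⟨x, hx⟩ * g⁻¹) * A.x 0 2 1 = A.x 0 2 1 * (g * ⟨x, hx⟩ * g⁻¹) := by
    have h2 : (⟨x, hx⟩ : ↥L) * ⟨t, ht⟩ = ⟨t, ht⟩ * ⟨x, hx⟩ := Subtype.ext hc
    rw [← hg]
    calc g * ⟨x, hx⟩ * g⁻¹ * (g * ⟨t, ht⟩ * g⁻¹) = g * (⟨x, hx⟩ * ⟨t, ht⟩) * g⁻¹ := by group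
      _ = g * ⟨t, ht⟩ * g⁻¹ * (g * ⟨x, hx⟩ * g⁻¹) := by rw [h2]; group
  obtain ⟨p, hp⟩ := A.cent _ h1
  have hm : g * ⟨x, hx⟩ * g⁻¹ ∈ A.T := A.mem_T.2 ⟨p, hp.symm⟩
  have h64 : (⟨x, hx⟩ : ↥L) ^ 64 = 1 := by
    have h2 : (⟨g * ⟨x, hx⟩ * g⁻¹, hm⟩ : ↥A.T) ^ 64 = 1 := by
      rw [← A.card_T]
      exact pow_card_eq_one'
    have h3 : (g * ⟨x, hx⟩ * g⁻¹) ^ 64 = 1 := congrArg Subtype.val h2
    rw [conj_pow] at h3
    have h4 : (⟨x, hx⟩ : ↥L) ^ 64 = g⁻¹ * (g * ⟨x, hx⟩ ^ 64 * g⁻¹) * g := by group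
    rw [h4, h3]
    group
  have h3 : (⟨x, hx⟩ : ↥L) ^ 5 = 1 := Subtype.ext h5
  apply hx1
  have h5 : (⟨x, hx⟩ : ↥L) = 1 := by
    calc (⟨x, hx⟩ : ↥L) = (⟨x, hx⟩ ^ 5) ^ 13 * (⟨x, hx⟩ ^ 64)⁻¹ := by rw [← pow_mul]; group
      _ = 1 := by rw [h64, h3, one_pow, inv_one, mul_one]
  exact congrArg Subtype.val h5

theorem mem_L_of_five {x : Suz} (hx : x ^ 5 = 1) (hxe : x * e0 = e0 * x) : x ∈ L := by
  have hsq : ∀ y : Suz, y * e0 = e0 * y → y * y ∈ VL := fun y hy =>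
    mul_self_mem_of_index_two Cfsg.Agent.KFacts.SuzTwoB.idx.1 (⟨y, mem_CE.2 hy⟩ : ↥CE)
  have h3 : x ∈ VL := by
    have h4 : x = (x * x * x) * (x * x * x) := by
      calc x = x * x ^ 5 := by rw [hx, mul_one]
        _ = (x * x * x) * (x * x * x) := by simp only [pow_succ, pow_zero, one_mul, mul_assoc]
    rw [h4]
    refine hsq _ ?_
    have h5 : Commute x e0 := hxe
    exact ((h5.mul_left h5).mul_left h5).eq
  obtain ⟨v, hv, l, hl, hvl⟩ := Cfsg.Agent.KFacts.SuzTwoB.mem_VL.1 h3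
  have hcomm : v * l = l * v := Cfsg.Agent.KFacts.SuzLFour.V_comm v hv l hl
  have h5 : v ^ 5 * l ^ 5 = 1 := by
    rw [← (show Commute v l from hcomm).mul_pow, hvl, hx]
  have h6 : v ^ 5 ∈ L := by
    rw [eq_inv_of_mul_eq_one_left h5]
    exact L.inv_mem (L.pow_mem hl 5)
  have h7 := Cfsg.Agent.KFacts.SuzTwoB.V_cap_L (Cfsg.Agent.KFacts.SuzLFour.V.pow_mem hv 5) h6
  have h8 : v ^ 2 ^ 1 = 1 := Cfsg.Agent.CTwoTab.Suz.sq_V hv
  have h9 : v = 1 := by
    calc v = v ^ 5 * (v ^ 2 ^ 1)⁻¹ * (v ^ 2 ^ 1)⁻¹ := by rw [pow_one]; group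
      _ = 1 := by rw [h7, h8, inv_one, mul_one, mul_one]
  rw [← hvl, h9, one_mul]
  exact hl

/-- **A 2-subgroup commuting with `e0` and an element of order 5 has order at most 8.** -/
theorem card_le_eight {x : Suz} (hx5 : x ^ 5 = 1) (hx1 : x ≠ 1) (hxe : x * e0 = e0 * x) {S : Subgroup Suz}
    (hS : IsPGroup 2 S) (hSx : ∀ s ∈ S, s * x = x * s) (hSe : ∀ s ∈ S, s * e0 = e0 * s) : Nat.card S ≤ 8 := by
  have hfin := finSuz
  have hxL := mem_L_of_five hx5 hxe
  have hSL : S ⊓ L = ⊥ := by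
    by_contra hne
    have hp : IsPGroup 2 ↥(S ⊓ L) := hS.to_le inf_le_left
    have h2 : 2 ∣ Nat.card ↥(S ⊓ L) := by
      obtain ⟨n, hn⟩ := IsPGroup.iff_card.1 hp
      rcases Nat.eq_zero_or_pos n with h0 | h0
      · rw [h0, pow_zero] at hn
        exact absurd (card_eq_one.1 hn) hne
      · rw [hn]
        exact dvd_pow_self 2 h0.ne'
    have hF2 : Fact (Nat.Prime 2) := ⟨Nat.prime_two⟩
    obtain ⟨t, ht⟩ := exists_prime_orderOf_dvd_card' 2 h2
    have hto : orderOf (t : Suz) = 2 := by rw [orderOf_coe]; exact ht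
    refine no_inv hxL t.2.2 hx5 hx1 ?_ ?_ (hSx _ t.2.1).symm
    · rw [← pow_two, ← hto, pow_orderOf_eq_one]
    · intro h
      rw [h, orderOf_one] at hto
      omega
  have hSCE : S ≤ CE := fun s hs => mem_CE.2 (hSe s hs)
  have h1 : L.relIndex CE = 8 := by
    have h2 : Nat.card L * L.relIndex CE = Nat.card CE := by
      rw [← relIndex_bot_left, ← relIndex_bot_left]
      exact relIndex_mul_relIndex ⊥ L CE bot_le Cfsg.Agent.CTwoTab.Suz.L_le_CE
    rw [card_L, card_CE] at h2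
    omega
  have h3 : L.relIndex S ≤ L.relIndex CE := relIndex_le_of_le_right hSCE (by rw [h1]; norm_num)
  have h4 : Nat.card S = L.relIndex S := by
    rw [← inf_relIndex_right, inf_comm, hSL, relIndex_bot_left]
  omega

theorem le_dvd {S : Subgroup Suz} (hS : IsPGroup 2 S) {k : ℕ} (h : Nat.card S ≤ 2 ^ k) : Nat.card S ∣ 2 ^ k := by
  have hfin := finSuz
  have hF2 : Fact (Nat.Prime 2) := ⟨Nat.prime_two⟩
  obtain ⟨n, hn⟩ := IsPGroup.iff_card.1 hS
  rw [hn] at h ⊢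
  exact pow_dvd_pow 2 ((Nat.pow_le_pow_iff_right (by norm_num)).1 h)

theorem orderOf_conj' (g x : Suz) : orderOf (g⁻¹ * x * g) = orderOf x := by
  have h := orderOf_conj g⁻¹ x
  rwa [inv_inv] at h

theorem comm_conj {g x t t' : Suz} (h : g * t * g⁻¹ = t') (hx : x * t' = t' * x) :
    (g⁻¹ * x * g) * t = t * (g⁻¹ * x * g) := by
  have h2 : t = g⁻¹ * t' * g := by rw [← h]; group
  rw [h2]
  calc g⁻¹ * x * g * (g⁻¹ * t' * g) = g⁻¹ * (x * t') * g := by group
    _ = g⁻¹ * (t' * x) * g := by rw [hx]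
    _ = g⁻¹ * t' * g * (g⁻¹ * x * g) := by group

/-- **`CB 3 2 8`** -/
theorem cb_three_two : CB 3 2 8 Suz := by
  intro x hx
  have hfin := finSuz
  refine Cen.not_dvd_of_inv (k := 9) (by norm_num) fun t ht hxt => ?_
  rcases exists_conj_inv ht with ⟨g, hg⟩ | ⟨g, hg⟩
  · rw [← hg, Cen.card_inf_conj]
    exact two_z0_three (by rw [orderOf_conj', hx]) (comm_conj hg hxt)
  · rw [← hg, Cen.card_inf_conj]
    have hx' : orderOf (g⁻¹ * x * g) = 3 := by rw [orderOf_conj', hx]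
    intro hd
    refine not_dvd_of (m := 3) (fun T hT hle => ?_) ((pow_dvd_pow 2 (by norm_num)).trans hd)
    refine le_dvd hT (BpSpor.SuzThree.card_le_eight (x := g⁻¹ * x * g) (by rw [← hx', pow_orderOf_eq_one]) ?_
      (comm_conj hg hxt) hT (fun t ht => mem_centralizer_singleton_iff.1 (hle ht).2)
      (fun t ht => mem_centralizer_singleton_iff.1 (hle ht).1))
    intro h1
    rw [h1, orderOf_one] at hx'
    omega

/-- **`CB 5 2 4`** -/
theorem cb_five_two : CB 5 2 4 Suz := by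
  intro x hx
  have hfin := finSuz
  refine Cen.not_dvd_of_inv (k := 5) (by norm_num) fun t ht hxt => ?_
  rcases exists_conj_inv ht with ⟨g, hg⟩ | ⟨g, hg⟩
  · rw [← hg, Cen.card_inf_conj]
    exact two_z0_five (by rw [orderOf_conj', hx]) (comm_conj hg hxt)
  · rw [← hg, Cen.card_inf_conj]
    have hx' : orderOf (g⁻¹ * x * g) = 5 := by rw [orderOf_conj', hx]
    intro hd
    refine not_dvd_of (m := 3) (fun T hT hle => ?_) ((pow_dvd_pow 2 (by norm_num)).trans hd)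
    refine le_dvd hT (card_le_eight (x := g⁻¹ * x * g) (by rw [← hx', pow_orderOf_eq_one]) ?_
      (comm_conj hg hxt) hT (fun t ht => mem_centralizer_singleton_iff.1 (hle ht).2)
      (fun t ht => mem_centralizer_singleton_iff.1 (hle ht).1))
    intro h1
    rw [h1, orderOf_one] at hx'
    omega

/-! ### Elements of order 7 -/

/-- an involution commuting with an element of order 7 has no fixed point in common with it -/
theorem no_common {x t : Suz} (hx : orderOf x = 7) (ht : orderOf t = 2) (hxt : x * t = t * x) {a : ℕ}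
    (h1 : a ∈ Fx x) (h2 : a ∈ Fx t) : False := by
  have hfin := finSuz
  have h7 : Fact (Nat.Prime 7) := ⟨by norm_num⟩
  rcases exists_conj_inv ht with ⟨g, hg⟩ | ⟨g, hg⟩
  · have h3 : g⁻¹ * x * g ∈ centralizer ({z0} : Set Suz) := mem_centralizer_singleton_iff.2 (comm_conj hg hxt)
    have h4 := orderOf_dvd_natCard (⟨_, h3⟩ : centralizer ({z0} : Set Suz))
    rw [Subgroup.orderOf_mk, orderOf_conj', hx, card_cz] at h4
    norm_num at h4
  · have h3 : (Fx t).card = 42 := by rw [← hg, card_Fx_conj, card_Fx_e0]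
    have h4 := common hx hxt
    rw [h3] at h4
    have h5 : (Fx x ∩ Fx t).card ≤ 4 := (Finset.card_le_card Finset.inter_subset_left).trans (card_Fx_seven hx).le
    have h6 : 0 < (Fx x ∩ Fx t).card := Finset.card_pos.2 ⟨a, Finset.mem_inter.2 ⟨h1, h2⟩⟩
    generalize (Fx x ∩ Fx t).card = m at *
    interval_cases m <;> revert h4 <;> decide

/-- **`CB 7 2 2`** -/
theorem cb_seven_two : CB 7 2 2 Suz := by
  intro x hx
  have hfin := finSuz
  have hF2 : Fact (Nat.Prime 2) := ⟨Nat.prime_two⟩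
  refine not_dvd_of fun T hT hle => ?_
  have hTx : ∀ t ∈ T, t * x = x * t := fun t ht => mem_centralizer_singleton_iff.1 (hle ht)
  obtain ⟨a, ha, h1⟩ := exists_fix hT (Fx x) (fun q hq a ha => φ_fix_of_comm (hTx q hq) ha) (m := 2) (by
    rw [card_Fx_seven hx]; norm_num)
  have h2 : T ⊓ stabL φ [a] = ⊥ := by
    by_contra hne
    have hp : IsPGroup 2 (T ⊓ stabL φ [a] : Subgroup Suz) := hT.to_le inf_le_left
    have h2 : 2 ∣ Nat.card (T ⊓ stabL φ [a] : Subgroup Suz) := by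
      obtain ⟨n, hn⟩ := IsPGroup.iff_card.1 hp
      rcases Nat.eq_zero_or_pos n with h0 | h0
      · rw [h0, pow_zero] at hn
        exact absurd (card_eq_one.1 hn) hne
      · rw [hn]
        exact dvd_pow_self 2 h0.ne'
    obtain ⟨t, ht⟩ := exists_prime_orderOf_dvd_card' 2 h2
    have hto : orderOf (t : Suz) = 2 := by rw [orderOf_coe]; exact ht
    exact no_common hx hto (hTx _ t.2.1).symm ha (mem_Fx.2 ⟨(mem_Fx.1 ha).1, mem_stab_pt.1 t.2.2⟩)
  rw [h2, Subgroup.card_bot, mul_one] at h1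
  exact h1

end Cfsg.Agent.H868.CopSuz
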