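import Cfsg.Agent.H868.HerBridge
import Cfsg.Agent.H50.HerNum
import Cfsg.Agent.H50.HerRel

/-!
# Hering's theorem (S3695): the exceptional pairs, numerical elimination (helper868, task 1472 of helper50)

`dvd_glq` : `|S| (p ^ b - 1)` divides `|GL_{d / b}(p ^ b)|`;
`no_of_tst` : the numerical test for the pairs `(p, d)` (conditions: `p ^ d - 1 ∣ (p ^ b - 1) 2 |S|` and `dvd_glq`).
-/

set_option autoImplicit false

namespace Cfsg.Agent.H868.HerExc

open Cfsg Cfsg.Agent.H50.Her Module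

universe u

variable {p d b : ℕ} {L V S : Type u} [Group L] [AddCommGroup V] [Module (ZMod p) V] [Group S] {π : L →* S}
  {ρ : L →* (V ≃ₗ[ZMod p] V)}

/-- the scalars -/
noncomputable def sc (n : ℕ) (E : Type u) [Field E] : Eˣ →* Matrix.GeneralLinearGroup (Fin n) E :=
  Units.map (Matrix.scalar (Fin n) : E →+* Matrix (Fin n) (Fin n) E).toMonoidHom

theorem coe_sc {n : ℕ} {E : Type u} [Field E] (a : Eˣ) :
    ((sc n E a : Matrix.GeneralLinearGroup (Fin n) E) : Matrix (Fin n) (Fin n) E) = Matrix.scalar (Fin n) (a : E) := rfl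

theorem sc_injective {n : ℕ} (hn : 1 ≤ n) {E : Type u} [Field E] : Function.Injective (sc n E) := by
  intro a c h
  have h1 : (Matrix.scalar (Fin n) (a : E)) = Matrix.scalar (Fin n) (c : E) := congrArg Units.val h
  have h2 := congrFun (congrFun h1 ⟨0, hn⟩) ⟨0, hn⟩
  simp at h2
  exact Units.ext h2

theorem sc_comm {n : ℕ} {E : Type u} [Field E] (a : Eˣ) (g : Matrix.GeneralLinearGroup (Fin n) E) :
    sc n E a * g = g * sc n E a := by
  apply Units.ext
  rw [Units.val_mul, Units.val_mul, coe_sc]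
  exact (Matrix.scalar_commute (a : E) (fun _ => mul_comm _ _) (g : Matrix (Fin n) (Fin n) E)).eq

/-- **`|S| (p ^ b - 1)` divides `|GL_{d / b}(p ^ b)|`.** -/
theorem dvd_glq (h : Cfg p d b L V S π ρ) : Nat.card S * (p ^ b - 1) ∣ glCard (p ^ b) (d / b) := by
  classical
  obtain ⟨E, _, n, σ, hch, hE, hn, hσ⟩ := HerBridge.exists_gl h
  have hfE : Finite E := Nat.finite_of_card_ne_zero (by rw [hE]; exact pow_ne_zero _ h.prime.ne_zero)
  have : Fintype E := Fintype.ofFinite E
  have hn1 : 1 ≤ n := by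
    rcases Nat.eq_zero_or_pos n with h0 | h0
    · rw [h0, zero_mul] at hn
      have := h.b_lt
      omega
    · exact h0
  have hdb : d / b = n := by
    rw [← hn]
    exact Nat.mul_div_cancel _ h.b_pos
  have hgl : Nat.card (Matrix.GeneralLinearGroup (Fin n) E) = glCard (p ^ b) (d / b) := by
    rw [hdb, Matrix.card_GL_field, glCard, ← List.prod_ofFn]
    congr 1
    rw [List.ofFn_eq_map, ← List.map_coe_finRange_eq_range, List.map_map]
    congr 1
    funext i
    rw [← Nat.card_eq_fintype_card, hE]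
    rfl
  let Z : Subgroup (Matrix.GeneralLinearGroup (Fin n) E) := (sc n E).range
  have hZ : Nat.card Z = p ^ b - 1 := by
    rw [← hE, ← Nat.card_congr (MonoidHom.ofInjective (sc_injective hn1)).toEquiv, Nat.card_units]
  have hZn : Z.Normal := ⟨by
    rintro _ ⟨a, rfl⟩ g
    refine ⟨a, ?_⟩
    rw [← sc_comm a g, mul_assoc, mul_inv_cancel, mul_one]⟩
  have h1 : Z.comap σ ≤ π.ker := by
    intro l hl
    rw [h.cent, Subgroup.mem_center_iff]
    obtain ⟨a, ha⟩ := hl
    intro g
    apply hσ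
    rw [map_mul, map_mul, ← ha, sc_comm]
  have h2 : Nat.card S ∣ Z.index := by
    have h3 : π.ker.index = Nat.card S := by
      rw [Subgroup.index_ker, MonoidHom.range_eq_top.2 h.surj, Nat.card_congr Subgroup.topEquiv.toEquiv]
    rw [← h3]
    have h4 : Z.comap σ ≤ π.ker := h1
    have h5 : (Z.comap σ).index = Z.relIndex σ.range := Subgroup.index_comap Z σ
    have h6 : Z.relIndex σ.range ∣ Z.index := Subgroup.relIndex_dvd_index_of_normal Z σ.range
    exact (Subgroup.index_dvd_of_le h4).trans (h5 ▸ h6)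
  rw [← hgl, ← Z.index_mul_card, hZ]
  exact Nat.mul_dvd_mul_right h2 _

/-- the test for one value of `b` -/
def tstB (n p d b : ℕ) : Bool :=
  Nat.beq b 0 || !(Nat.beq (d % b) 0) || !(Nat.beq (((p ^ b - 1) * (2 * n)) % (p ^ d - 1)) 0) ||
    !(Nat.beq (glCard (p ^ b) (d / b) % (n * (p ^ b - 1))) 0)

/-- the test for a pair -/
def tst (n : ℕ) (x : ℕ × ℕ) : Bool := (List.range x.2).all fun b => tstB n x.1 x.2 b

theorem tstB_spec {n : ℕ} (h : Cfg p d b L V S π ρ) (hn : Nat.card S = n)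
    (ha : Nat.card (MulAut S) ∣ 2 * Nat.card S) (ht : tstB n p d b = true) : False := by
  have h1 : p ^ d - 1 ∣ (p ^ b - 1) * (2 * n) := h.num.trans (Nat.mul_dvd_mul_left _ (hn ▸ ha))
  have h2 := dvd_glq h
  rw [hn] at h2
  unfold tstB at ht
  have e2 : Nat.beq (glCard (p ^ b) (d / b) % (n * (p ^ b - 1))) 0 = true := by
    rw [Nat.mod_eq_zero_of_dvd h2]; rfl
  have e3 : Nat.beq b 0 = false := by
    rw [← Bool.not_eq_true]
    exact fun h0 => h.b_pos.ne' (Nat.eq_of_beq_eq_true h0)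
  have e4 : Nat.beq (d % b) 0 = true := by rw [Nat.mod_eq_zero_of_dvd h.b_dvd]; rfl
  have e5 : Nat.beq (((p ^ b - 1) * (2 * n)) % (p ^ d - 1)) 0 = true := by rw [Nat.mod_eq_zero_of_dvd h1]; rfl
  rw [e2, e3, e4, e5] at ht
  simp at ht

theorem tst_spec {n : ℕ} (h : Cfg p d b L V S π ρ) (hn : Nat.card S = n)
    (ha : Nat.card (MulAut S) ∣ 2 * Nat.card S) (ht : tst n (p, d) = true) : False := by
  unfold tst at ht
  rw [List.all_eq_true] at ht
  exact tstB_spec h hn ha (ht b (List.mem_range.2 h.b_lt))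

/-- the exceptional pairs -/
def exc : List (ℕ × ℕ) := [(2, 10), (2, 12), (2, 18), (3, 6), (5, 6)]

/-- **The numerical elimination.** -/
theorem no_of_tst {n : ℕ} (h : Cfg p d b L V S π ρ) (hE : Exc p d) (hn : Nat.card S = n)
    (ha : Nat.card (MulAut S) ∣ 2 * Nat.card S) (ht : exc.all (tst n) = true) : False := by
  rw [List.all_eq_true] at ht
  refine tst_spec h hn ha (ht (p, d) ?_)
  rcases hE with ⟨rfl, rfl | rfl | rfl⟩ | ⟨rfl, rfl | rfl⟩ <;> decide

end Cfsg.Agent.H868.HerExc
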