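import Cfsg.Agent.H203.LSDef

/-!
# Hering's theorem (S3695), `Suz`: the group `3 ^ 5 : 11` (helper868, task 1472 of helper50)

`Fr T x` : `T` is elementary abelian of order `3 ^ 5`, `x ^ 11 = 1`, `x` normalises `T` and acts on it without fixed
points.

* `Fr.inv` : `x` acts irreducibly on `T`;
* `weights` : a faithful representation of degree `n` over the field with `2 ^ b` elements, `b = 1, 2`, satisfies
  `22 ≤ n * b`.
-/

set_option autoImplicit false

namespace Cfsg.Agent.H868.HerSuz

open Module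

universe u

/-- `T` is elementary abelian of order `3 ^ 5` and `x`, of order `11`, acts on it without fixed points. -/
structure Fr {M : Type*} [Group M] (T : Subgroup M) (x : M) : Prop where
  comm : ∀ a ∈ T, ∀ c ∈ T, a * c = c * a
  cube : ∀ a ∈ T, a ^ 3 = 1
  card : Nat.card T = 243
  pow : x ^ 11 = 1
  nor : ∀ a ∈ T, x * a * x⁻¹ ∈ T
  fix : ∀ a ∈ T, x * a * x⁻¹ = a → a = 1

/-- fixed points modulo 11 -/
theorem card_fix_mod {M : Type*} [Group M] {x : M} (hx : x ^ 11 = 1) (N : Subgroup M) [Finite N]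
    (hN : ∀ a ∈ N, x * a * x⁻¹ ∈ N) : Nat.card N ≡ Nat.card {a : N // x * (a : M) * x⁻¹ = a} [MOD 11] := by
  classical
  have := Fact.mk (show Nat.Prime 11 by norm_num)
  let f : Function.End N := fun a => ⟨x * a * x⁻¹, hN a a.2⟩
  have hf' : ∀ n (a : N), (((f ^ n : Function.End N) a : N) : M) = x ^ n * a * (x ^ n)⁻¹ := by
    intro n
    induction n with
    | zero =>
      intro a
      rw [pow_zero, pow_zero, one_mul, inv_one, mul_one]
      rfl
    | succ n ih =>
      intro a
      rw [pow_succ f n]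
      change (((f ^ n : Function.End N) (f a) : N) : M) = _
      rw [ih, pow_succ]
      change x ^ n * (x * a * x⁻¹) * (x ^ n)⁻¹ = _
      group
  have hf : f ^ 11 ^ 1 = 1 := by
    rw [pow_one]
    funext a
    apply Subtype.ext
    rw [hf', hx, one_mul, inv_one, mul_one]
    rfl
  have : Fintype N := Fintype.ofFinite _
  have h1 := Equiv.Perm.card_fixedPoints_modEq hf
  rw [← Nat.card_eq_fintype_card, ← Nat.card_eq_fintype_card] at h1
  have h2 : Nat.card {a : N // x * (a : M) * x⁻¹ = a} = Nat.card (Function.fixedPoints f) :=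
    Nat.card_congr (Equiv.subtypeEquivRight fun a => by
      change _ ↔ f a = a
      rw [Subtype.ext_iff])
  rw [h2]
  exact h1

namespace Fr

variable {M : Type*} [Group M] {T : Subgroup M} {x : M} (F : Fr T x)
include F

theorem fin : Finite T := Nat.finite_of_card_ne_zero (by rw [F.card]; norm_num)

/-- `x` acts irreducibly. -/
theorem inv {N : Subgroup M} (hN : N ≤ T) (hx : ∀ a ∈ N, x * a * x⁻¹ ∈ N) : N = ⊥ ∨ N = T := by
  have := F.fin
  have hfN : Finite N := Finite.of_injective (Subgroup.inclusion hN) (Subgroup.inclusion_injective hN)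
  have h1 := card_fix_mod F.pow N hx
  have h2 : Nat.card {a : N // x * (a : M) * x⁻¹ = a} = 1 := by
    rw [Nat.card_eq_one_iff_unique]
    refine ⟨⟨fun a c => ?_⟩, ⟨⟨1, by simp⟩⟩⟩
    apply Subtype.ext
    apply Subtype.ext
    rw [F.fix _ (hN a.1.2) a.2, F.fix _ (hN c.1.2) c.2]
  rw [h2] at h1
  have h3 : Nat.card N ∣ 3 ^ 5 := by
    have := Subgroup.card_dvd_of_le hN
    rwa [F.card] at this
  obtain ⟨k, hk, hk2⟩ := (Nat.dvd_prime_pow Nat.prime_three).1 h3
  rw [hk2, Nat.ModEq] at h1
  interval_cases k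
  · left
    rw [pow_zero] at hk2
    exact Subgroup.card_eq_one.1 hk2
  · norm_num at h1
  · norm_num at h1
  · norm_num at h1
  · norm_num at h1
  · right
    exact Subgroup.eq_of_le_of_card_ge hN (by rw [F.card, hk2]; norm_num)

theorem nor_pow (i : ℕ) : ∀ a ∈ T, x ^ i * a * (x ^ i)⁻¹ ∈ T := by
  induction i with
  | zero => intro a ha; simpa using ha
  | succ i ih =>
    intro a ha
    have h1 := F.nor _ (ih a ha)
    have h2 : x * (x ^ i * a * (x ^ i)⁻¹) * x⁻¹ = x ^ (i + 1) * a * (x ^ (i + 1))⁻¹ := by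
      rw [pow_succ']; group
    rwa [h2] at h1

theorem pow_inv (j : ℕ) : (x ^ j)⁻¹ = x ^ (10 * j) := by
  rw [inv_eq_iff_mul_eq_one, ← pow_add, show j + 10 * j = 11 * j by ring, pow_mul, F.pow, one_pow]

theorem nor_inv (i : ℕ) : ∀ a ∈ T, (x ^ i)⁻¹ * a * x ^ i ∈ T := by
  intro a ha
  have h1 := F.nor_pow (10 * i) a ha
  rw [← F.pow_inv] at h1
  rwa [inv_inv] at h1

/-- a subgroup invariant under `x ^ (i + 10 j)`, `i ≠ j`, is invariant under `x` -/
theorem inv_of {N : Subgroup M} {i j : Fin 11} (hij : i ≠ j)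
    (hx : ∀ a ∈ N, x ^ (10 * j.val + i.val) * a * (x ^ (10 * j.val + i.val))⁻¹ ∈ N) : ∀ a ∈ N, x * a * x⁻¹ ∈ N := by
  have key : ∀ i j : Fin 11, i ≠ j → ∃ m : Fin 11, ((10 * j.val + i.val) * m.val) % 11 = 1 := by decide
  obtain ⟨m, hm⟩ := key i j hij
  have h1 : ∀ m : ℕ, ∀ a ∈ N, (x ^ (10 * j.val + i.val)) ^ m * a * ((x ^ (10 * j.val + i.val)) ^ m)⁻¹ ∈ N := by
    intro m
    induction m with
    | zero => intro a ha; simpa using ha
    | succ m ih =>
      intro a ha
      have h1 := hx _ (ih a ha)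
      generalize x ^ (10 * j.val + i.val) = y at h1 ⊢
      have h2 : y * (y ^ m * a * (y ^ m)⁻¹) * y⁻¹ = y ^ (m + 1) * a * (y ^ (m + 1))⁻¹ := by
        rw [pow_succ']; group
      rwa [h2] at h1
  intro a ha
  have h2 := h1 m.val a ha
  have h3 : (x ^ (10 * j.val + i.val)) ^ m.val = x := by
    rw [← pow_mul, ← Nat.div_add_mod ((10 * j.val + i.val) * m.val) 11, hm, pow_add, pow_mul, F.pow, one_pow, one_mul,
      pow_one]
  rwa [h3] at h2

end Fr

section weights

variable {E : Type u} [Field E] {n : ℕ} {L : Type u} [Group L]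

/-- the representation over the algebraic closure -/
noncomputable def ext (σ : L →* Matrix.GeneralLinearGroup (Fin n) E) :
    L →* ((Fin n → AlgebraicClosure E) →ₗ[AlgebraicClosure E] (Fin n → AlgebraicClosure E)) where
  toFun g := Matrix.toLin' ((σ g : Matrix (Fin n) (Fin n) E).map (algebraMap E (AlgebraicClosure E)))
  map_one' := by
    simp only [map_one, Matrix.GeneralLinearGroup.coe_one]
    rw [Matrix.map_one _ (map_zero _) (map_one _), Matrix.toLin'_one]; rfl
  map_mul' := fun a b => by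
    rw [map_mul, Matrix.GeneralLinearGroup.coe_mul, Matrix.map_mul, Matrix.toLin'_mul]
    rfl

theorem ext_apply (σ : L →* Matrix.GeneralLinearGroup (Fin n) E) (g : L) (v : Fin n → AlgebraicClosure E)
    (j : Fin n) : ext σ g v j = ∑ k, algebraMap E (AlgebraicClosure E) ((σ g : Matrix (Fin n) (Fin n) E) j k) * v k := by
  change Matrix.toLin' ((σ g : Matrix (Fin n) (Fin n) E).map (algebraMap E (AlgebraicClosure E))) v j = _
  rw [Matrix.toLin'_apply]
  rfl

theorem ext_injective {σ : L →* Matrix.GeneralLinearGroup (Fin n) E} (hσ : Function.Injective σ) :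
    Function.Injective (ext σ) := by
  intro a c h
  apply hσ
  have h1 := Matrix.toLin'.injective h
  apply Units.ext
  exact Matrix.map_injective (algebraMap E (AlgebraicClosure E)).injective h1

/-- squaring the coordinates -/
noncomputable def sq (v : Fin n → AlgebraicClosure E) : Fin n → AlgebraicClosure E := fun j => v j ^ 2

theorem ext_sq [CharP E 2] (h2 : ∀ a : E, a ^ 2 = a) (σ : L →* Matrix.GeneralLinearGroup (Fin n) E) (g : L)
    (v : Fin n → AlgebraicClosure E) {c : AlgebraicClosure E} (h : ext σ g v = c • v) :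
    ext σ g (sq v) = c ^ 2 • sq v := by
  have : CharP (AlgebraicClosure E) 2 := charP_of_injective_algebraMap (algebraMap E (AlgebraicClosure E)).injective 2
  have : Fact (Nat.Prime 2) := ⟨Nat.prime_two⟩
  funext j
  have h1 := congrFun h j
  rw [ext_apply] at h1 ⊢
  rw [Pi.smul_apply, smul_eq_mul] at h1 ⊢
  change _ = c ^ 2 * (v j) ^ 2
  rw [← mul_pow, ← h1]
  have h3 := map_sum (frobenius (AlgebraicClosure E) 2)
    (fun k => algebraMap E (AlgebraicClosure E) ((σ g : Matrix (Fin n) (Fin n) E) j k) * v k) Finset.univ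
  rw [frobenius_def] at h3
  rw [h3]
  refine Finset.sum_congr rfl fun k _ => ?_
  rw [frobenius_def, mul_pow, ← map_pow, h2]
  rfl

variable {T : Subgroup L} {x : L}

theorem cube_cases {K : Type*} [Field K] {z : K} (hz : z ^ 3 = 1) (ε : Fin 2) : z ^ (ε.val + 1) = 1 ↔ z = 1 := by
  constructor
  · intro h
    fin_cases ε
    · simpa using h
    · simp only at h
      rw [pow_succ, h, one_mul] at hz
      exact hz
  · rintro rfl
    exact one_pow _

theorem three_ne [CharP E 2] : ((3 : ℕ) : AlgebraicClosure E) ≠ 0 := by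
  have : CharP (AlgebraicClosure E) 2 := charP_of_injective_algebraMap (algebraMap E (AlgebraicClosure E)).injective 2
  intro h0
  rw [CharP.cast_eq_zero_iff (AlgebraicClosure E) 2] at h0
  omega

/-- **The weights of `3 ^ 5 : 11`.** -/
theorem weights [Finite E] [CharP E 2] {b : ℕ} (hE : Nat.card E = 2 ^ b) (hb : b = 1 ∨ b = 2)
    (σ : L →* Matrix.GeneralLinearGroup (Fin n) E) (hσ : Function.Injective σ) (F : Fr T x) : 22 ≤ n * b := by
  classical
  have hfT := F.fin
  -- a nontrivial element
  obtain ⟨t0, ht0⟩ : ∃ t : T, t ≠ 1 := by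
    have : Nontrivial T := Finite.one_lt_card_iff_nontrivial.1 (by rw [F.card]; norm_num)
    exact exists_ne 1
  have hinj := ext_injective hσ
  obtain ⟨v, χ, hv, hχ, hχ0⟩ := Cfsg.Agent.H203.LS.exists_weight (fun t : T => ext σ t) (fun i j => by
    rw [← map_mul, ← map_mul, F.comm _ i.2 _ j.2]) (j0 := t0) (N := 3) three_ne (by
      change ext σ t0 ^ 3 = 1
      rw [← map_pow, F.cube _ t0.2, map_one]) (by
      intro h
      apply ht0
      apply Subtype.ext
      apply hinj
      rw [h]
      exact (map_one _).symm)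
  have hχ' : ∀ t : T, ext σ t v = χ t • v := hχ
  have hsm : Function.Injective fun c : AlgebraicClosure E => c • v := smul_left_injective _ hv
  have hmul : ∀ s t : T, χ (s * t) = χ s * χ t := by
    intro s t
    apply hsm
    change χ (s * t) • v = (χ s * χ t) • v
    rw [← hχ', Subgroup.coe_mul, map_mul, Module.End.mul_apply, hχ', map_smul, hχ', smul_smul, mul_comm]
  have hone : χ 1 = 1 := by
    apply hsm
    change χ 1 • v = (1 : AlgebraicClosure E) • v
    rw [← hχ', Subgroup.coe_one, map_one, one_smul]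
    rfl
  have hcube : ∀ t : T, χ t ^ 3 = 1 := by
    intro t
    have h1 : t ^ 3 = 1 := Subtype.ext (F.cube _ t.2)
    calc χ t ^ 3 = χ (t * t * t) := by rw [hmul, hmul]; ring
      _ = χ (t ^ 3) := by rw [pow_succ, pow_succ, pow_one]
      _ = 1 := by rw [h1, hone]
  -- the kernel
  let χ1 : T →* AlgebraicClosure E := ⟨⟨χ, hone⟩, hmul⟩
  let N : Subgroup L := (χ1.toHomUnits.ker).map T.subtype
  have hN : ∀ a : L, a ∈ N ↔ ∃ h : a ∈ T, χ ⟨a, h⟩ = 1 := by
    intro a
    constructor
    · rintro ⟨t, ht, rfl⟩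
      exact ⟨t.2, congrArg Units.val ht⟩
    · rintro ⟨h1, h2⟩
      exact ⟨⟨a, h1⟩, Units.ext h2, rfl⟩
  have hNT : N ≤ T := by
    intro a ha
    exact ((hN a).1 ha).1
  have hNinv : ¬ ∀ a ∈ N, x * a * x⁻¹ ∈ N := by
    intro h
    rcases F.inv hNT h with h1 | h1
    · -- `χ` is injective
      have h2 : Function.Injective χ1.toHomUnits := by
        rw [injective_iff_map_eq_one]
        intro a ha
        have h3 : (a : L) ∈ N := ⟨a, ha, rfl⟩
        rw [h1, Subgroup.mem_bot] at h3
        exact Subtype.ext h3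
      have h3 : Nat.card T ≤ Nat.card (rootsOfUnity 3 (AlgebraicClosure E)) := by
        refine Nat.card_le_card_of_injective (fun t => ⟨χ1.toHomUnits t, ?_⟩) ?_
        · rw [mem_rootsOfUnity]
          exact Units.ext (hcube t)
        · intro a c hac
          exact h2 (congrArg Subtype.val hac)
      have h4 := card_rootsOfUnity (AlgebraicClosure E) 3
      rw [F.card] at h3
      omega
    · have h2 : (t0 : L) ∈ N := by rw [h1]; exact t0.2
      exact hχ0 ((hN _).1 h2).2
  -- the conjugate weights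
  let c : Fin 11 → T → T := fun i t => ⟨(x ^ i.val)⁻¹ * t * x ^ i.val, F.nor_inv _ _ t.2⟩
  have hw : ∀ (i : Fin 11) (t : T), ext σ t (ext σ (x ^ i.val) v) = χ (c i t) • ext σ (x ^ i.val) v := by
    intro i t
    rw [← Module.End.mul_apply, ← map_mul]
    have h1 : (t : L) * x ^ i.val = x ^ i.val * (c i t : T) := by
      change (t : L) * x ^ i.val = x ^ i.val * ((x ^ i.val)⁻¹ * t * x ^ i.val)
      group
    rw [h1, map_mul, Module.End.mul_apply, hχ', map_smul]
  have hw0 : ∀ i : Fin 11, ext σ (x ^ i.val) v ≠ 0 := by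
    intro i h
    apply hv
    have h1 : ext σ (x ^ i.val)⁻¹ (ext σ (x ^ i.val) v) = 0 := by rw [h, map_zero]
    rwa [← Module.End.mul_apply, ← map_mul, inv_mul_cancel, map_one, Module.End.one_apply] at h1
  have hdist : ∀ (i j : Fin 11) (ε δ : Fin 2), (∀ t, χ (c i t) ^ (ε.val + 1) = χ (c j t) ^ (δ.val + 1)) →
      i = j ∧ ε = δ := by
    intro i j ε δ h
    have hij : i = j := by
      by_contra hij
      apply hNinv
      refine F.inv_of hij ?_
      intro a ha
      obtain ⟨haT, ha1⟩ := (hN a).1 ha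
      have h1 := h ⟨x ^ i.val * a * (x ^ i.val)⁻¹, F.nor_pow _ _ haT⟩
      have h2 : c i ⟨x ^ i.val * a * (x ^ i.val)⁻¹, F.nor_pow _ _ haT⟩ = ⟨a, haT⟩ := by
        apply Subtype.ext
        change (x ^ i.val)⁻¹ * (x ^ i.val * a * (x ^ i.val)⁻¹) * x ^ i.val = a
        group
      rw [h2, ha1, one_pow] at h1
      have h3 := (cube_cases (hcube _) δ).1 h1.symm
      rw [hN]
      have h4 : x ^ (10 * j.val + i.val) * a * (x ^ (10 * j.val + i.val))⁻¹ =
          (c j ⟨x ^ i.val * a * (x ^ i.val)⁻¹, F.nor_pow _ _ haT⟩ : T) := by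
        change _ = (x ^ j.val)⁻¹ * (x ^ i.val * a * (x ^ i.val)⁻¹) * x ^ j.val
        rw [pow_add, ← F.pow_inv]
        group
      rw [h4]
      exact ⟨Subtype.property _, h3⟩
    refine ⟨hij, ?_⟩
    subst hij
    -- all values
    have h1 := h ⟨x ^ i.val * t0 * (x ^ i.val)⁻¹, F.nor_pow _ _ t0.2⟩
    have h2 : c i ⟨x ^ i.val * t0 * (x ^ i.val)⁻¹, F.nor_pow _ _ t0.2⟩ = t0 := by
      apply Subtype.ext
      change (x ^ i.val)⁻¹ * (x ^ i.val * t0 * (x ^ i.val)⁻¹) * x ^ i.val = t0
      group
    rw [h2] at h1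
    have h3 : χ t0 ≠ 0 := by
      intro h0
      have := hcube t0
      rw [h0] at this
      norm_num at this
    by_contra hne
    apply hχ0
    have h4 : χ t0 = χ t0 ^ 2 := by
      fin_cases ε <;> fin_cases δ
      · exact absurd rfl hne
      · simpa using h1
      · simpa using h1.symm
      · exact absurd rfl hne
    have h5 : χ t0 * 1 = χ t0 * χ t0 := by rw [mul_one, ← pow_two]; exact h4
    exact (mul_left_cancel₀ h3 h5).symm
  have hfr : finrank (AlgebraicClosure E) (Fin n → AlgebraicClosure E) = n := Module.finrank_fin_fun _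
  rcases hb with rfl | rfl
  · -- `b = 1`
    have h2 : ∀ a : E, a ^ 2 = a := by
      intro a
      have := Fintype.ofFinite E
      have h3 := FiniteField.pow_card a
      rwa [← Nat.card_eq_fintype_card, hE, pow_one] at h3
    have h3 := Cfsg.Agent.H203.LS.card_le_of_weights (fun t : T => ext σ t)
      (fun i : Fin 11 × Fin 2 => if i.2 = 0 then ext σ (x ^ i.1.val) v else sq (ext σ (x ^ i.1.val) v))
      (fun i t => χ (c i.1 t) ^ (i.2.val + 1)) (by
        rintro ⟨i, ε⟩
        fin_cases ε
        · exact hw0 i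
        · intro h0
          apply hw0 i
          have h0' : sq (ext σ (x ^ i.val) v) = 0 := h0
          funext j
          have := congrFun h0' j
          change (ext σ (x ^ i.val) v j) ^ 2 = 0 at this
          exact pow_eq_zero_iff (two_ne_zero) |>.1 this) (by
        rintro ⟨i, ε⟩ t
        fin_cases ε
        · change ext σ t (ext σ (x ^ i.val) v) = χ (c i t) ^ (0 + 1) • ext σ (x ^ i.val) v
          rw [zero_add, pow_one]
          exact hw i t
        · change ext σ t (sq (ext σ (x ^ i.val) v)) = χ (c i t) ^ (1 + 1) • sq (ext σ (x ^ i.val) v)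
          exact ext_sq h2 σ t _ (hw i t)) (by
        rintro ⟨i, ε⟩ ⟨j, δ⟩ h
        obtain ⟨h4, h5⟩ := hdist i j ε δ (fun t => congrFun h t)
        rw [h4, h5])
    rw [hfr] at h3
    simp only [Nat.card_eq_fintype_card, Fintype.card_prod, Fintype.card_fin] at h3
    omega
  · have h3 := Cfsg.Agent.H203.LS.card_le_of_weights (fun t : T => ext σ t)
      (fun i : Fin 11 => ext σ (x ^ i.val) v) (fun i t => χ (c i t)) hw0 hw (by
        intro i j h
        exact (hdist i j 0 0 (fun t => by
          change χ (c i t) ^ (0 + 1) = χ (c j t) ^ (0 + 1)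
          rw [show χ (c i t) = χ (c j t) from congrFun h t])).1)
    rw [hfr] at h3
    simp only [Nat.card_eq_fintype_card, Fintype.card_fin] at h3
    omega

end weights

end Cfsg.Agent.H868.HerSuz
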