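import Mathlib
import Cfsg.Prelude.Def_Local
import Cfsg.Agent.H486.HgIface
import Cfsg.Agent.SignalizersComponents.Components
import Cfsg.Agent.Cit.Comp
import Cfsg.Agent.S0205

/-!
# Homogeneous finite groups: the layer (helper868, for S3924)

* `aut_of_orderOf_eq` : in a homogeneous group elements of the same order are conjugate under the automorphism group;
* `layer_cases` : the layer of a finite homogeneous group is trivial or quasisimple.
-/

set_option autoImplicit false

namespace Cfsg.Agent.H868.HgLayer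

open Subgroup Cfsg Cfsg.Agent.H486.Hg
open scoped commutatorElement

universe u

/-- A finite quasisimple group is not solvable modulo its centre; it has a 2-element of order 2 modulo the centre. -/
theorem exists_two {K : Type*} [Group K] [Finite K] (hK : IsQuasisimple K) :
    ∃ (x : K) (a : ℕ), x ∉ center K ∧ x ^ 2 ∈ center K ∧ orderOf x = 2 ^ (a + 1) := by
  obtain ⟨hp, hs⟩ := hK
  -- even order
  have heven : 2 ∣ Nat.card (K ⧸ center K) := by
    by_contra h2
    have hodd : Odd (Nat.card (K ⧸ center K)) := by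
      rw [← Nat.not_even_iff_odd, even_iff_two_dvd]
      exact h2
    have hsol : Group.IsSolvable (K ⧸ center K) := Cfsg.Agent.S0205.result hodd
    have hcomm := (IsSimpleGroup.comm_iff_isSolvable (G := K ⧸ center K)).2 hsol
    have hle : commutator K ≤ center K := by
      rw [commutator_def, Subgroup.commutator_le]
      intro g _ h _
      rw [← QuotientGroup.eq_one_iff]
      have := hcomm (g : K ⧸ center K) (h : K ⧸ center K)
      change QuotientGroup.mk' (center K) ⁅g, h⁆ = 1
      rw [map_commutatorElement, commutatorElement_eq_one_iff_mul_comm]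
      exact this
    have htop : commutator K = ⊤ := hp.commutator_eq_top
    rw [htop] at hle
    have : Subsingleton (K ⧸ center K) := by
      rw [QuotientGroup.subsingleton_iff]
      exact top_le_iff.1 hle
    exact not_subsingleton (K ⧸ center K) this
  have : Fact (Nat.Prime 2) := ⟨Nat.prime_two⟩
  obtain ⟨zb, hzb⟩ := exists_prime_orderOf_dvd_card' 2 heven
  obtain ⟨z, rfl⟩ := QuotientGroup.mk_surjective zb
  obtain ⟨k, m, hm, hkm⟩ := Nat.exists_eq_two_pow_mul_odd (n := orderOf z) (orderOf_pos z).ne'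
  have hz1 : (z : K ⧸ center K) ≠ 1 := by
    intro h
    rw [h, orderOf_one] at hzb
    omega
  have hz2 : (z : K ⧸ center K) ^ 2 = 1 := by rw [← hzb]; exact pow_orderOf_eq_one _
  have hzm : (z : K ⧸ center K) ^ m = z := by
    obtain ⟨j, rfl⟩ := hm
    rw [pow_succ, pow_mul, hz2, one_pow, one_mul]
  have hx : z ^ m ∉ center K := by
    rw [← QuotientGroup.eq_one_iff]
    rw [QuotientGroup.mk_pow, hzm]
    exact hz1
  have hx2 : (z ^ m) ^ 2 ∈ center K := by
    rw [← QuotientGroup.eq_one_iff]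
    rw [QuotientGroup.mk_pow, QuotientGroup.mk_pow, hzm, hz2]
  have ho : orderOf (z ^ m) = 2 ^ k := by
    rw [orderOf_pow_of_dvd (by rintro rfl; simp at hm) (hkm ▸ dvd_mul_left m (2 ^ k)), hkm]
    exact Nat.mul_div_cancel _ hm.pos
  have hk : k ≠ 0 := by
    rintro rfl
    rw [pow_zero, orderOf_eq_one_iff] at ho
    rw [ho] at hx
    exact hx (one_mem _)
  obtain ⟨a, rfl⟩ := Nat.exists_eq_succ_of_ne_zero hk
  exact ⟨z ^ m, a, hx, hx2, ho⟩

/-- In a homogeneous group elements of the same order are conjugate under the automorphism group. -/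
theorem aut_of_orderOf_eq {G : Type*} [Group G] (hH : Homog G) {x y : G} (h : orderOf x = orderOf y) :
    ∃ φ : G ≃* G, φ x = y := by
  have hgen : ∀ z : G, ∀ w : zpowers z, w ∈ zpowers (⟨z, mem_zpowers z⟩ : zpowers z) := by
    rintro z ⟨w, k, rfl⟩
    exact ⟨k, Subtype.ext (by simp)⟩
  have ho : orderOf (⟨x, mem_zpowers x⟩ : zpowers x) = orderOf (⟨y, mem_zpowers y⟩ : zpowers y) := by
    rw [← Subgroup.orderOf_coe, ← Subgroup.orderOf_coe]
    exact h
  obtain ⟨φ, hφ⟩ := hH (zpowers x) (zpowers y) (mulEquivOfOrderOfEq (hgen x) (hgen y) ho)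
  refine ⟨φ, ?_⟩
  have := hφ ⟨x, mem_zpowers x⟩
  rw [mulEquivOfOrderOfEq_apply_gen] at this
  exact this

section
variable {G : Type*} [Group G] [Finite G]

/-- Of any two distinct components `u` centralises one. -/
def P (u : G) : Prop :=
  ∀ L₁ L₂ : Subgroup G, IsComponent L₁ → IsComponent L₂ → L₁ ≠ L₂ →
    (∀ l ∈ L₁, u * l = l * u) ∨ (∀ l ∈ L₂, u * l = l * u)

omit [Finite G] in
theorem P.map {u : G} (h : P u) (φ : G ≃* G) : P (φ u) := by
  have key : ∀ L : Subgroup G, (∀ l ∈ L.map φ.symm.toMonoidHom, u * l = l * u) → ∀ l ∈ L, φ u * l = l * φ u := by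
    intro L hL l hl
    have h1 := congrArg φ (hL (φ.symm l) ⟨l, hl, rfl⟩)
    rwa [map_mul, map_mul, MulEquiv.apply_symm_apply] at h1
  intro L₁ L₂ h₁ h₂ hne
  rcases h _ _ (Cfsg.Agent.SignalizersComponents.Components.isComponent_map_equiv φ.symm h₁)
    (Cfsg.Agent.SignalizersComponents.Components.isComponent_map_equiv φ.symm h₂)
    (fun he => hne (Subgroup.map_injective φ.symm.injective he)) with h3 | h3
  · exact Or.inl (key L₁ h3)
  · exact Or.inr (key L₂ h3)

omit [Finite G] in
theorem contra (hH : Homog G) {K₁ K₂ : Subgroup G} (h₁ : IsComponent K₁) (h₂ : IsComponent K₂) (hne : K₁ ≠ K₂)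
    {x y : G} (hx : x ∈ K₁) (hy : y ∈ K₂) (hxc : ¬ ∀ k ∈ K₁, x * k = k * x) (hyc : ¬ ∀ k ∈ K₂, y * k = k * y)
    (hx2 : ∀ k ∈ K₁, x ^ 2 * k = k * x ^ 2) {a b : ℕ} (hox : orderOf x = 2 ^ (a + 1))
    (hoy : orderOf y = 2 ^ (b + 1)) (hab : a ≤ b) : False := by
  have comm : ∀ {E F : Subgroup G}, IsComponent E → IsComponent F → E ≠ F → ∀ {x y : G}, x ∈ E → y ∈ F →
      x * y = y * x := fun hE hF hn _ _ hx hy => Cfsg.Agent.Cit.Comp.comm_of_ne hE hF hn hx hy
  have hxy : x * y = y * x := comm h₁ h₂ hne hx hy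
  have hPy : P y := by
    intro L₁ L₂ hL₁ hL₂ hL
    by_cases h : L₁ = K₂
    · subst h
      exact Or.inr fun l hl => comm h₂ hL₂ hL hy hl
    · exact Or.inl fun l hl => comm h₂ hL₁ (Ne.symm h) hy hl
  have hPxy : ¬ P (x * y) := by
    intro h
    rcases h K₁ K₂ h₁ h₂ hne with h | h
    · apply hxc
      intro k hk
      have h3 := h k hk
      have h4 : k * y = y * k := comm h₁ h₂ hne hk hy
      have h5 : x * k * y = k * x * y := by rw [mul_assoc, h4, ← mul_assoc, h3, mul_assoc]
      exact mul_right_cancel h5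
    · apply hyc
      intro k hk
      have h3 := h k hk
      have h4 : x * k = k * x := comm h₁ h₂ hne hx hk
      have h5 : x * (y * k) = x * (k * y) := by rw [← mul_assoc, h3, ← mul_assoc, ← mul_assoc, h4]
      exact mul_left_cancel h5
  by_cases ho : orderOf (x * y) = 2 ^ (b + 1)
  · obtain ⟨φ, hφ⟩ := aut_of_orderOf_eq hH (hoy.trans ho.symm)
    exact hPxy (hφ ▸ hPy.map φ)
  have hcom : Commute x y := hxy
  have hd : orderOf (x * y) ∣ 2 ^ (b + 1) := by
    apply orderOf_dvd_of_pow_eq_one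
    rw [hcom.mul_pow, orderOf_dvd_iff_pow_eq_one.1 (hox ▸ pow_dvd_pow 2 (by omega)),
      orderOf_dvd_iff_pow_eq_one.1 (hoy ▸ dvd_rfl), one_mul]
  obtain ⟨c, hc, hoc⟩ := (Nat.dvd_prime_pow Nat.prime_two).1 hd
  have hcb : c ≤ b := by
    rcases Nat.lt_or_ge b c with h | h
    · exact absurd (hoc.trans (by rw [show c = b + 1 by omega])) ho
    · exact h
  have hab' : a = b := by
    by_contra hne'
    have h1 : (x * y) ^ (2 ^ b) = 1 := orderOf_dvd_iff_pow_eq_one.1 (hoc ▸ pow_dvd_pow 2 hcb)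
    rw [hcom.mul_pow, orderOf_dvd_iff_pow_eq_one.1 (hox ▸ pow_dvd_pow 2 (by omega)), one_mul,
      ← orderOf_dvd_iff_pow_eq_one, hoy, Nat.pow_dvd_pow_iff_le_right (by norm_num)] at h1
    omega
  subst hab'
  have hc1 : c ≠ 0 := by
    rintro rfl
    rw [pow_zero, orderOf_eq_one_iff] at hoc
    apply hPxy
    rw [hoc]
    intro L₁ L₂ _ _ _
    exact Or.inl fun l _ => by rw [one_mul, mul_one]
  have hoz : orderOf ((x ^ 2) ^ (2 ^ (a - c))) = 2 ^ c := by
    rw [← pow_mul, orderOf_pow_of_dvd (by positivity), hox]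
    · rw [show a + 1 = c + (1 + (a - c)) by omega, pow_add 2 c, pow_add 2 1, pow_one]
      exact Nat.mul_div_cancel _ (by positivity)
    · rw [hox, show a + 1 = c + (1 + (a - c)) by omega, pow_add 2 c, pow_add 2 1, pow_one]
      exact dvd_mul_left _ _
  have hPz : P ((x ^ 2) ^ (2 ^ (a - c))) := by
    intro L₁ L₂ hL₁ hL₂ hL
    refine Or.inl fun l hl => ?_
    by_cases h : L₁ = K₁
    · subst h
      have : Commute (x ^ 2) l := hx2 l hl
      exact this.pow_left _
    · exact comm h₁ hL₁ (Ne.symm h) (pow_mem (pow_mem hx _) _) hl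
  obtain ⟨φ, hφ⟩ := aut_of_orderOf_eq hH (hoz.trans hoc.symm)
  exact hPxy (hφ ▸ hPz.map φ)

/-- A finite homogeneous group has at most one component. -/
theorem component_unique (hH : Homog G) {K₁ K₂ : Subgroup G} (h₁ : IsComponent K₁) (h₂ : IsComponent K₂) :
    K₁ = K₂ := by
  by_contra hne
  have key : ∀ K : Subgroup G, IsComponent K → ∃ (x : G) (a : ℕ), x ∈ K ∧ (¬ ∀ k ∈ K, x * k = k * x) ∧
      (∀ k ∈ K, x ^ 2 * k = k * x ^ 2) ∧ orderOf x = 2 ^ (a + 1) := by
    intro K hK
    obtain ⟨x, a, hx, hx2, ho⟩ := exists_two hK.2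
    refine ⟨x, a, x.2, fun h => hx ?_, fun k hk => ?_, ?_⟩
    · rw [mem_center_iff]
      intro g
      exact Subtype.ext (h g g.2).symm
    · have := congrArg Subtype.val ((mem_center_iff.1 hx2) ⟨k, hk⟩)
      exact this.symm
    · rw [← ho, Subgroup.orderOf_coe]
  obtain ⟨x, a, hx, hxc, hx2, hox⟩ := key K₁ h₁
  obtain ⟨y, b, hy, hyc, hy2, hoy⟩ := key K₂ h₂
  rcases le_total a b with h | h
  · exact contra hH h₁ h₂ hne hx hy hxc hyc hx2 hox hoy h
  · exact contra hH h₂ h₁ (Ne.symm hne) hy hx hyc hxc hy2 hoy hox h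

/-- The layer of a finite homogeneous group is trivial or quasisimple. -/
theorem layer_cases (hH : Cfsg.Agent.H486.Hg.Homog G) :
    Cfsg.layer G = ⊥ ∨ Cfsg.IsQuasisimple (Cfsg.layer G) := by
  by_cases h : ∃ K : Subgroup G, IsComponent K
  · obtain ⟨K, hK⟩ := h
    have : Cfsg.layer G = K := by
      apply le_antisymm
      · apply sSup_le
        intro L hL
        exact (component_unique hH hL hK).le
      · exact le_sSup hK
    rw [this]
    exact Or.inr hK.2
  · left
    push Not at h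
    rw [eq_bot_iff]
    exact sSup_le fun L hL => absurd hL (h L)

end

end Cfsg.Agent.H868.HgLayer
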